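import Mathlib

/-!
# S4246, orthogonal rows: arithmetic (helper311)
-/

set_option autoImplicit false

namespace Cfsg.Agent.H311.PD

/-- `q ^ m + 1` is prime to the characteristic -/
theorem not_dvd_pow_add_one {p f m : ℕ} (hp : p.Prime) (hf : 1 ≤ f) (hm : 1 ≤ m) : ¬ p ∣ (p ^ f) ^ m + 1 := by
  intro h
  have h1 : p ∣ (p ^ f) ^ m := dvd_pow (dvd_pow_self p (by omega)) (by omega)
  have h2 := (Nat.dvd_add_right h1).1 h
  exact hp.one_lt.ne' (Nat.dvd_one.1 h2)

theorem not_dvd_pow_sub_one {p f m : ℕ} (hp : p.Prime) (hf : 1 ≤ f) (hm : 1 ≤ m) : ¬ p ∣ (p ^ f) ^ m - 1 := by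
  intro h
  have h1 : p ∣ (p ^ f) ^ m := dvd_pow (dvd_pow_self p (by omega)) (by omega)
  have h3 : 1 ≤ (p ^ f) ^ m := Nat.one_le_pow _ _ (pow_pos hp.pos _)
  have h2 := (Nat.dvd_sub h1 h)
  rw [Nat.sub_sub_self h3] at h2
  exact hp.one_lt.ne' (Nat.dvd_one.1 h2)

theorem fac_two_le {p : ℕ} (hp : p.Prime) : (2 : ℕ).factorization p ≤ 1 := by
  by_contra h
  push Not at h
  have h1 : p ^ 2 ∣ 2 := (hp.pow_dvd_iff_le_factorization (by norm_num)).2 h
  have h2 := Nat.le_of_dvd (by norm_num) h1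
  have h3 : 2 * 2 ≤ p ^ 2 := by rw [pow_two]; exact Nat.mul_le_mul hp.two_le hp.two_le
  omega

theorem fac_plane {p f m : ℕ} (hp : p.Prime) (hf : 1 ≤ f) (hm : 1 ≤ m) :
    (((p ^ f) ^ m + 1) * (2 * (p ^ f - 1))).factorization p ≤ 1 := by
  have h1 := not_dvd_pow_add_one hp hf hm
  have h2 := not_dvd_pow_sub_one hp hf (le_refl 1)
  rw [pow_one] at h2
  have hq : 1 < p ^ f := Nat.one_lt_pow (by omega) hp.one_lt
  rw [Nat.factorization_mul (by positivity) (by omega), Nat.factorization_mul (by norm_num) (by omega),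
    Finsupp.add_apply, Finsupp.add_apply, Nat.factorization_eq_zero_of_not_dvd h1,
    Nat.factorization_eq_zero_of_not_dvd h2]
  have := fac_two_le hp
  omega

/-- **LTE.** -/
theorem lte {t p f e : ℕ} (ht : t.Prime) (hf : 1 ≤ f) (hp : 1 ≤ p) (h : t ∣ (p ^ f) ^ e - 1) (he : 1 < (p ^ f) ^ e) :
    f.factorization t + 1 ≤ ((p ^ f) ^ e - 1).factorization t := by
  have := Fact.mk ht
  obtain ⟨a, ha⟩ : ∃ a, a = f.factorization t := ⟨_, rfl⟩
  obtain ⟨g, hg⟩ : t ^ a ∣ f := by rw [ha]; exact Nat.ordProj_dvd f t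
  rw [← ht.pow_dvd_iff_le_factorization (by omega), ← ha]
  have h1 : (p ^ f) ^ e = (p ^ (g * e)) ^ t ^ a := by
    rw [← pow_mul, ← pow_mul, hg]
    congr 1
    ring
  have h2 : 1 ≤ (p ^ (g * e)) ^ t ^ a := Nat.one_le_pow _ _ (pow_pos hp _)
  rw [h1] at h ⊢
  -- Fermat
  have h3 : (t : ℤ) ∣ ((p ^ (g * e) : ℕ) : ℤ) - 1 := by
    rw [← ZMod.intCast_zmod_eq_zero_iff_dvd]
    have h4 : (((p ^ (g * e)) ^ t ^ a - 1 : ℕ) : ZMod t) = 0 := (ZMod.natCast_eq_zero_iff _ _).2 h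
    rw [Nat.cast_sub h2, Nat.cast_pow, Nat.cast_one, ZMod.pow_card_pow] at h4
    push_cast at h4 ⊢
    exact h4
  have h4 := dvd_sub_pow_of_dvd_sub (R := ℤ) (p := t) h3 a
  have h5 : ((t ^ (a + 1) : ℕ) : ℤ) ∣ (((p ^ (g * e)) ^ t ^ a - 1 : ℕ) : ℤ) := by
    rw [Nat.cast_sub h2]
    push_cast at h4 ⊢
    rwa [one_pow] at h4
  exact_mod_cast h5

theorem fac_plane_odd {p f m : ℕ} (hp : p.Prime) (hp2 : p ≠ 2) (hf : 1 ≤ f) (hm : 1 ≤ m) :
    (((p ^ f) ^ m + 1) * (2 * (p ^ f - 1))).factorization p = 0 := by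
  apply Nat.factorization_eq_zero_of_not_dvd
  intro h
  have h1 := not_dvd_pow_add_one hp hf hm
  have h2 := not_dvd_pow_sub_one hp hf (le_refl 1)
  rw [pow_one] at h2
  rcases hp.dvd_mul.1 h with h3 | h3
  · exact h1 h3
  · rcases hp.dvd_mul.1 h3 with h4 | h4
    · exact hp2 ((Nat.prime_dvd_prime_iff_eq hp Nat.prime_two).1 h4)
    · exact h2 h4

theorem fac_two_mul_le {p n : ℕ} (hp : p.Prime) (hp2 : p ≠ 2) (hn : 1 ≤ n) : (2 * n).factorization p + 1 ≤ n := by
  have h1 : (2 : ℕ).factorization p = 0 := Nat.factorization_eq_zero_of_not_dvd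
    (fun h => hp2 ((Nat.prime_dvd_prime_iff_eq hp Nat.prime_two).1 h))
  rw [Nat.factorization_mul (by norm_num) (by omega), Finsupp.add_apply, h1, zero_add]
  exact Nat.factorization_lt p (by omega)

theorem fac_mono {t a b : ℕ} (hb : b ≠ 0) (h : a ∣ b) : a.factorization t ≤ b.factorization t := by
  have ha : a ≠ 0 := fun h0 => hb (by rw [h0] at h; exact Nat.eq_zero_of_zero_dvd h)
  exact (Nat.factorization_le_iff_dvd ha hb).2 h t

theorem prod_ne_zero {q n : ℕ} (hq : 2 ≤ q) : ∏ i ∈ Finset.range n, (q ^ (2 * (i + 1)) - 1) ≠ 0 := by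
  rw [Finset.prod_ne_zero_iff]
  intro i _
  have : 1 < q ^ (2 * (i + 1)) := Nat.one_lt_pow (by omega) (by omega)
  omega

/-- the order of `q` modulo `t` -/
theorem exists_ord {t q : ℕ} (ht : t.Prime) (h : ¬ t ∣ q) (hq : 1 ≤ q) :
    ∃ e, 1 ≤ e ∧ ∀ m, t ∣ q ^ m - 1 ↔ e ∣ m := by
  have := Fact.mk ht
  have h0 : (q : ZMod t) ≠ 0 := fun h1 => h ((ZMod.natCast_eq_zero_iff _ _).1 h1)
  refine ⟨orderOf (Units.mk0 (q : ZMod t) h0), orderOf_pos _, fun m => ?_⟩
  rw [orderOf_dvd_iff_pow_eq_one, Units.ext_iff, Units.val_pow_eq_pow_val, Units.val_mk0, Units.val_one,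
    ← ZMod.natCast_eq_zero_iff, Nat.cast_sub (Nat.one_le_pow _ _ hq), Nat.cast_pow, Nat.cast_one, sub_eq_zero]

/-- **The other primes, minus type.** -/
theorem num_minus {t p f n : ℕ} (ht : t.Prime) (ht2 : t ≠ 2) (hp : p.Prime) (htp : t ≠ p) (hf : 1 ≤ f) (hn : 4 ≤ n)
    (hd : t ∣ ((p ^ f) ^ n + 1) * ∏ i ∈ Finset.range (n - 1), ((p ^ f) ^ (2 * (i + 1)) - 1)) :
    ((∀ m, t ∣ (p ^ f) ^ m - 1 → 2 * n ∣ m) ∧ t ∣ (p ^ f) ^ n + 1) ∨
    ((∀ m, t ∣ (p ^ f) ^ m - 1 → 2 * (n - 1) ∣ m) ∧ t ∣ (p ^ f) ^ (n - 1) + 1) ∨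
    (p ^ f - 1).factorization t + f.factorization t <
      ((p ^ f) ^ (n - 1) - 1).factorization t +
        (∏ i ∈ Finset.range (n - 2), ((p ^ f) ^ (2 * (i + 1)) - 1)).factorization t := by
  have hq2 : 2 ≤ p ^ f := by
    calc 2 ≤ p := hp.two_le
      _ = p ^ 1 := (pow_one p).symm
      _ ≤ p ^ f := Nat.pow_le_pow_right hp.pos hf
  have htq : ¬ t ∣ p ^ f := fun h => htp ((Nat.prime_dvd_prime_iff_eq ht hp).1 (ht.dvd_of_dvd_pow h))
  obtain ⟨e, he1, he⟩ := exists_ord ht htq (by omega)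
  have hpos : ∀ m, 1 ≤ m → 1 < (p ^ f) ^ m := fun m hm => Nat.one_lt_pow (by omega) (by omega)
  have hsq : ∀ m, 1 ≤ m → (p ^ f) ^ (2 * m) - 1 = ((p ^ f) ^ m + 1) * ((p ^ f) ^ m - 1) := by
    intro m _
    rw [mul_comm 2 m, pow_mul]
    exact Nat.sq_sub_sq ((p ^ f) ^ m) 1
  have hboth : ∀ m, 1 ≤ m → t ∣ (p ^ f) ^ m + 1 → t ∣ (p ^ f) ^ m - 1 → False := by
    intro m hm h1 h2
    have h3 := Nat.dvd_sub h1 h2
    have h4 := hpos m hm
    have h5 : (p ^ f) ^ m + 1 - ((p ^ f) ^ m - 1) = 2 := by omega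
    rw [h5] at h3
    exact ht2 ((Nat.prime_dvd_prime_iff_eq ht Nat.prime_two).1 h3)
  -- the direct case
  have direct : ∀ i, i < n - 2 → e ∣ 2 * (i + 1) → (p ^ f - 1).factorization t + f.factorization t <
      ((p ^ f) ^ (n - 1) - 1).factorization t +
        (∏ i ∈ Finset.range (n - 2), ((p ^ f) ^ (2 * (i + 1)) - 1)).factorization t := by
    intro i hi hdi
    have h1 := lte ht hf hp.one_le ((he _).2 hdi) (hpos _ (by omega))
    have h2 := fac_mono (t := t) (prod_ne_zero (n := n - 2) hq2)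
      (Finset.dvd_prod_of_mem (fun i => (p ^ f) ^ (2 * (i + 1)) - 1) (Finset.mem_range.2 hi))
    have h3 : p ^ f - 1 ∣ (p ^ f) ^ (n - 1) - 1 := by
      have := Nat.sub_dvd_pow_sub_pow (p ^ f) 1 (n - 1)
      rwa [one_pow] at this
    have h4 := fac_mono (t := t) (by have := hpos (n - 1) (by omega); omega) h3
    omega
  have small : e ≤ n - 2 → (p ^ f - 1).factorization t + f.factorization t <
      ((p ^ f) ^ (n - 1) - 1).factorization t +
        (∏ i ∈ Finset.range (n - 2), ((p ^ f) ^ (2 * (i + 1)) - 1)).factorization t := by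
    intro h
    apply direct (e - 1) (by omega)
    rw [Nat.sub_add_cancel he1]
    exact dvd_mul_left _ _
  have hpr := Nat.prime_iff.1 ht
  rcases ht.dvd_mul.1 hd with h | h
  · -- `t ∣ q ^ n + 1`
    have h1 : t ∣ (p ^ f) ^ (2 * n) - 1 := by rw [hsq n (by omega)]; exact Dvd.dvd.mul_right h _
    obtain ⟨k, hk⟩ := (he _).1 h1
    have hk0 : k ≠ 0 := by rintro rfl; omega
    by_cases hk1 : k = 1
    · left
      refine ⟨fun m hm => ?_, h⟩
      rw [hk, hk1, mul_one]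
      exact (he m).1 hm
    · right; right
      by_cases hk2 : k = 2
      · exfalso
        have h2 : e = n := by rw [hk2] at hk; omega
        exact hboth n (by omega) h ((he n).2 (h2 ▸ dvd_rfl))
      · apply small
        have h3 : 3 ≤ k := by omega
        have h4 : e * 3 ≤ e * k := Nat.mul_le_mul_left _ h3
        omega
  · rw [hpr.dvd_finsetProd_iff] at h
    obtain ⟨i, hi, hti⟩ := h
    rw [Finset.mem_range] at hi
    have hei := (he _).1 hti
    by_cases hin : i < n - 2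
    · exact Or.inr (Or.inr (direct i hin hei))
    · have hi' : i + 1 = n - 1 := by omega
      rw [hi'] at hei hti
      obtain ⟨k, hk⟩ := hei
      have hk0 : k ≠ 0 := by rintro rfl; omega
      by_cases hk1 : k = 1
      · right; left
        refine ⟨fun m hm => ?_, ?_⟩
        · rw [hk, hk1, mul_one]
          exact (he m).1 hm
        · rw [hsq (n - 1) (by omega)] at hti
          rcases ht.dvd_mul.1 hti with h2 | h2
          · exact h2
          · exfalso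
            have h3 := Nat.le_of_dvd (by omega) ((he _).1 h2)
            rw [hk1] at hk
            omega
      · right; right
        by_cases hk2 : k = 2
        · have h2 : e = n - 1 := by rw [hk2] at hk; omega
          have h3 : t ∣ (p ^ f) ^ (n - 1) - 1 := (he _).2 (h2 ▸ dvd_rfl)
          have h4 := lte ht hf hp.one_le h3 (hpos _ (by omega))
          have h5 : (p ^ f - 1).factorization t = 0 := by
            apply Nat.factorization_eq_zero_of_not_dvd
            intro h6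
            rw [← pow_one (p ^ f)] at h6
            have h7 := Nat.le_of_dvd one_pos ((he 1).1 h6)
            omega
          omega
        · apply small
          have h3 : 3 ≤ k := by omega
          have h4 : e * 3 ≤ e * k := Nat.mul_le_mul_left _ h3
          omega

theorem fac3 {g N A B D : ℕ} (hg : g ≠ 0) (hN : N ≠ 0) (hA : A ≠ 0) (hB : B ≠ 0) (hD : D ≠ 0) (h : g * N = A * B * D)
    (t : ℕ) : g.factorization t + N.factorization t = A.factorization t + B.factorization t + D.factorization t := by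
  have h1 : (g * N).factorization t = (A * B * D).factorization t := by rw [h]
  rw [Nat.factorization_mul hg hN, Nat.factorization_mul (mul_ne_zero hA hB) hD, Nat.factorization_mul hA hB,
    Finsupp.add_apply, Finsupp.add_apply, Finsupp.add_apply] at h1
  exact h1

/-! ### the order of the group, minus type -/

section minus

variable {p f n N : ℕ}

theorem fac_minus_char (hp : p.Prime) (hf : 1 ≤ f) (hn : 4 ≤ n) (hN : N ≠ 0)
    (h : Nat.gcd 4 ((p ^ f) ^ n + 1) * N = (p ^ f) ^ (n * (n - 1)) * ((p ^ f) ^ n + 1) *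
      ∏ i ∈ Finset.range (n - 1), ((p ^ f) ^ (2 * (i + 1)) - 1)) : N.factorization p = f * (n * (n - 1)) := by
  have hq2 : 2 ≤ p ^ f := by
    calc 2 ≤ p := hp.two_le
      _ = p ^ 1 := (pow_one p).symm
      _ ≤ p ^ f := Nat.pow_le_pow_right hp.pos hf
  have h1 := not_dvd_pow_add_one hp hf (m := n) (by omega)
  have h2 : ¬ p ∣ Nat.gcd 4 ((p ^ f) ^ n + 1) := fun h0 => h1 (h0.trans (Nat.gcd_dvd_right _ _))
  have h3 : ¬ p ∣ ∏ i ∈ Finset.range (n - 1), ((p ^ f) ^ (2 * (i + 1)) - 1) := by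
    intro h0
    rw [(Nat.prime_iff.1 hp).dvd_finsetProd_iff] at h0
    obtain ⟨i, -, hi⟩ := h0
    exact not_dvd_pow_sub_one hp hf (by omega) hi
  have h4 : Nat.gcd 4 ((p ^ f) ^ n + 1) ≠ 0 := Nat.gcd_ne_zero_left (by norm_num)
  have h5 := fac3 h4 hN (pow_ne_zero (n * (n - 1)) (show p ^ f ≠ 0 by omega)) (show (p ^ f) ^ n + 1 ≠ 0 from Nat.succ_ne_zero _)
    (prod_ne_zero hq2) h p
  rw [Nat.factorization_eq_zero_of_not_dvd h2, Nat.factorization_eq_zero_of_not_dvd h1,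
    Nat.factorization_eq_zero_of_not_dvd h3, ← pow_mul, hp.factorization_pow, Finsupp.single_eq_same] at h5
  omega

theorem fac_minus_odd {t : ℕ} (ht : t.Prime) (ht2 : t ≠ 2) (hp : p.Prime) (htp : t ≠ p) (hf : 1 ≤ f) (hn : 4 ≤ n)
    (hN : N ≠ 0) (h : Nat.gcd 4 ((p ^ f) ^ n + 1) * N = (p ^ f) ^ (n * (n - 1)) * ((p ^ f) ^ n + 1) *
      ∏ i ∈ Finset.range (n - 1), ((p ^ f) ^ (2 * (i + 1)) - 1)) :
    N.factorization t = ((p ^ f) ^ n + 1).factorization t + ((p ^ f) ^ (n - 1) + 1).factorization t +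
      ((p ^ f) ^ (n - 1) - 1).factorization t +
        (∏ i ∈ Finset.range (n - 2), ((p ^ f) ^ (2 * (i + 1)) - 1)).factorization t := by
  have hq2 : 2 ≤ p ^ f := by
    calc 2 ≤ p := hp.two_le
      _ = p ^ 1 := (pow_one p).symm
      _ ≤ p ^ f := Nat.pow_le_pow_right hp.pos hf
  have hpos : ∀ m, 1 ≤ m → 1 < (p ^ f) ^ m := fun m hm => Nat.one_lt_pow (by omega) (by omega)
  have h2 : ¬ t ∣ Nat.gcd 4 ((p ^ f) ^ n + 1) := fun h0 => by
    have h1 : t ∣ 2 ^ 2 := h0.trans (Nat.gcd_dvd_left _ _)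
    exact ht2 ((Nat.prime_dvd_prime_iff_eq ht Nat.prime_two).1 (ht.dvd_of_dvd_pow h1))
  have h1 : ¬ t ∣ (p ^ f) ^ (n * (n - 1)) := fun h0 =>
    htp ((Nat.prime_dvd_prime_iff_eq ht hp).1 (ht.dvd_of_dvd_pow (ht.dvd_of_dvd_pow h0)))
  have h4 : Nat.gcd 4 ((p ^ f) ^ n + 1) ≠ 0 := Nat.gcd_ne_zero_left (by norm_num)
  have h6 : ∏ i ∈ Finset.range (n - 1), ((p ^ f) ^ (2 * (i + 1)) - 1) =
      (∏ i ∈ Finset.range (n - 2), ((p ^ f) ^ (2 * (i + 1)) - 1)) *
        (((p ^ f) ^ (n - 1) + 1) * ((p ^ f) ^ (n - 1) - 1)) := by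
    have h7 : n - 1 = (n - 2) + 1 := by omega
    conv_lhs => rw [h7, Finset.prod_range_succ]
    congr 1
    rw [← h7, mul_comm 2 (n - 1), pow_mul]
    exact Nat.sq_sub_sq ((p ^ f) ^ (n - 1)) 1
  have h8 : (p ^ f) ^ (n - 1) - 1 ≠ 0 := by have := hpos (n - 1) (by omega); omega
  have h5 := fac3 h4 hN (pow_ne_zero (n * (n - 1)) (show p ^ f ≠ 0 by omega)) (show (p ^ f) ^ n + 1 ≠ 0 from Nat.succ_ne_zero _)
    (prod_ne_zero hq2) h t
  rw [Nat.factorization_eq_zero_of_not_dvd h2, Nat.factorization_eq_zero_of_not_dvd h1, h6,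
    Nat.factorization_mul (prod_ne_zero hq2) (mul_ne_zero (Nat.succ_ne_zero _) h8),
    Nat.factorization_mul (show (p ^ f) ^ (n - 1) + 1 ≠ 0 from Nat.succ_ne_zero _) h8, Finsupp.add_apply,
    Finsupp.add_apply] at h5
  omega

/-- primitive primes -/
theorem fac_prim {t e : ℕ} (ht : t.Prime) (ht2 : t ≠ 2) (hp : p.Prime) (hf : 1 ≤ f) (he : 1 ≤ e)
    (hd : t ∣ (p ^ f) ^ e + 1) : f.factorization t + 1 ≤ ((p ^ f) ^ e + 1).factorization t := by
  have hq2 : 2 ≤ p ^ f := by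
    calc 2 ≤ p := hp.two_le
      _ = p ^ 1 := (pow_one p).symm
      _ ≤ p ^ f := Nat.pow_le_pow_right hp.pos hf
  have hpos : ∀ m, 1 ≤ m → 1 < (p ^ f) ^ m := fun m hm => Nat.one_lt_pow (by omega) (by omega)
  have h1 : (p ^ f) ^ (2 * e) - 1 = ((p ^ f) ^ e + 1) * ((p ^ f) ^ e - 1) := by
    rw [mul_comm 2 e, pow_mul]
    exact Nat.sq_sub_sq ((p ^ f) ^ e) 1
  have h2 : t ∣ (p ^ f) ^ (2 * e) - 1 := by rw [h1]; exact Dvd.dvd.mul_right hd _
  have h3 := lte ht hf hp.one_le h2 (hpos _ (by omega))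
  have h8 : (p ^ f) ^ e - 1 ≠ 0 := by have := hpos e he; omega
  have h4 : ¬ t ∣ (p ^ f) ^ e - 1 := by
    intro h5
    have h6 := Nat.dvd_sub hd h5
    have h7 : (p ^ f) ^ e + 1 - ((p ^ f) ^ e - 1) = 2 := by omega
    rw [h7] at h6
    exact ht2 ((Nat.prime_dvd_prime_iff_eq ht Nat.prime_two).1 h6)
  rw [h1, Nat.factorization_mul (show (p ^ f) ^ e + 1 ≠ 0 from Nat.succ_ne_zero _) h8, Finsupp.add_apply,
    Nat.factorization_eq_zero_of_not_dvd h4] at h3
  omega

theorem fac_out_char {c : ℕ} (hp : p.Prime) (hf : 1 ≤ f) (hc : c = 2 ∨ (p ≠ 2 ∧ (c = 4 ∨ c = 8))) :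
    (c * f).factorization p ≤ f := by
  have h1 := Nat.factorization_lt (n := f) p (by omega)
  rcases hc with rfl | ⟨hp2, hc⟩
  · rw [Nat.factorization_mul (by norm_num) (by omega), Finsupp.add_apply]
    have := fac_two_le hp
    omega
  · have h2 : c.factorization p = 0 := by
      apply Nat.factorization_eq_zero_of_not_dvd
      intro h
      apply hp2
      have h3 : p ∣ 2 ^ 3 := by
        rcases hc with rfl | rfl
        · exact h.trans (by norm_num)
        · exact h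
      exact (Nat.prime_dvd_prime_iff_eq hp Nat.prime_two).1 (hp.dvd_of_dvd_pow h3)
    have hc0 : c ≠ 0 := by rcases hc with rfl | rfl <;> norm_num
    rw [Nat.factorization_mul hc0 (by omega), Finsupp.add_apply, h2]
    omega

theorem fac_out_odd {c t : ℕ} (ht : t.Prime) (ht2 : t ≠ 2) (hf : 1 ≤ f) (hc : c = 2 ∨ (p ≠ 2 ∧ (c = 4 ∨ c = 8))) :
    (c * f).factorization t = f.factorization t := by
  have h2 : c.factorization t = 0 := by
    apply Nat.factorization_eq_zero_of_not_dvd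
    intro h
    apply ht2
    have h3 : t ∣ 2 ^ 3 := by
      rcases hc with rfl | ⟨-, rfl | rfl⟩
      · exact h.trans (by norm_num)
      · exact h.trans (by norm_num)
      · exact h
    exact (Nat.prime_dvd_prime_iff_eq ht Nat.prime_two).1 (ht.dvd_of_dvd_pow h3)
  have hc0 : c ≠ 0 := by rcases hc with rfl | ⟨-, rfl | rfl⟩ <;> norm_num
  rw [Nat.factorization_mul hc0 (by omega), Finsupp.add_apply, h2, zero_add]

end minus

end Cfsg.Agent.H311.PD
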