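import Cfsg.Agent.H311.PD.Trans
import Cfsg.Agent.H311.PD.Num

/-!
# S4246, orthogonal rows: `p`-subgroups normalised by an element of prime order (helper311)
-/

set_option autoImplicit false
set_option linter.unusedSectionVars false

namespace Cfsg.Agent.H311.PD

open QuadraticMap Module Subgroup Cfsg.Agent.LieClassical.OrthCore Cfsg.Agent.LieClassical.OrthTrans
open Cfsg.Agent.ClassicalGeometry.OrthSemi Cfsg.Agent.ClassicalGeometry.OrthAut1
open Cfsg.Agent.H200.LinFix Cfsg.Agent.H200.RowOrth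
open Cfsg.Agent.H160.PD (v v_mono v_eq_zero v_pos)

variable {F V : Type*} [Field F] [AddCommGroup V] [Module F V] {Q : QuadraticForm F V} [Finite V]
variable {p : ℕ} [hp : Fact p.Prime]

/-- an isometry fixing `u^⊥` pointwise -/
theorem eq_one_of_fix_prp (hQ : Nondeg Q) {k : V ≃ₗ[F] V} (hk : k ∈ O Q) {u : V} (hu : Q u = 0) (h0 : u ≠ 0)
    (h : ∀ w, polar Q u w = 0 → k w = w) : k = 1 := by
  ext z
  change k z = z
  by_cases hz : polar Q u z = 0
  · exact h z hz
  · obtain ⟨y, hy⟩ := hQ.exists_polar_eq h0 1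
    -- `k z - z` is a multiple of `u`
    have h1 : ∀ w, polar Q u w = 0 → polar Q (k z - z) w = 0 := by
      intro w hw
      have h2 := polar_map hk z w
      rw [h w hw] at h2
      rw [polar_sub_left, h2, sub_self]
    have h2 : k z - z = polar Q (k z - z) y • u := by
      have h3 : (k z - z) - polar Q (k z - z) y • u = 0 := by
        apply hQ
        intro w
        have h4 := h1 (w - polar Q u w • y) (by
          rw [polar_sub_right, polar_smul_right, hy, smul_eq_mul, mul_one, sub_self])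
        rw [polar_sub_right, polar_smul_right, smul_eq_mul] at h4
        rw [polar_sub_left, polar_smul_left, smul_eq_mul]
        linear_combination h4
      exact sub_eq_zero.1 h3
    set c := polar Q (k z - z) y with hc
    have h3 : k z = z + c • u := by rw [← h2]; abel
    have h4 : Q (k z) = Q z := hk z
    rw [h3, Q_add, QuadraticMap.map_smul, hu, polar_smul_right, polar_comm] at h4
    have h5 : c * polar Q u z = 0 := by
      simp only [smul_eq_mul, mul_zero, add_zero] at h4
      linear_combination h4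
    rcases mul_eq_zero.1 h5 with h6 | h6
    · rw [h3, h6, zero_smul, add_zero]
    · exact absurd h6 hz

/-- a `p`-group acting on `u^⊥ / u` -/
theorem exists_fixed_mod (hG : Good Q) {f : ℕ} (hf : 1 ≤ f) (hF : Nat.card F = p ^ f) {T : Subgroup ↥(E Q)}
    (hT : IsPGroup p T) {u : V} (hu : Q u = 0) (h0 : u ≠ 0) (hfix : ∀ g ∈ T, (g : V ≃ₗ[F] V) u = u) :
    ∃ w, polar Q u w = 0 ∧ w ∉ Submodule.span F {u} ∧ ∀ g ∈ T, (g : V ≃ₗ[F] V) w - w ∈ Submodule.span F {u} := by
  classical
  have hfinE : Finite ↥(E Q) := finite_E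
  have hfinF : Finite F := finite_F hG
  have hfd : FiniteDimensional F V := inferInstance
  let A : Submodule F V := prp Q u
  let N : Submodule F ↥A := (Submodule.span F {u}).comap A.subtype
  have hA : ∀ g ∈ T, ∀ w ∈ A, (g : V ≃ₗ[F] V) w ∈ A := by
    intro g hg w hw
    rw [mem_prp] at hw ⊢
    have h1 := polar_map (E_le_O g.2) u w
    rw [hfix g hg, hw] at h1
    exact h1
  have hN : ∀ g ∈ T, ∀ w ∈ Submodule.span F {u}, (g : V ≃ₗ[F] V) w ∈ Submodule.span F {u} := by
    intro g hg w hw
    rw [Submodule.mem_span_singleton] at hw ⊢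
    obtain ⟨c, rfl⟩ := hw
    exact ⟨c, by rw [map_smul, hfix g hg]⟩
  let act : MulAction ↥T (↥A ⧸ N) :=
    { smul := fun g => Quotient.map' (fun w => (⟨((g : ↥(E Q)) : V ≃ₗ[F] V) w, hA g g.2 w w.2⟩ : ↥A)) (by
        intro a b hab
        rw [Submodule.quotientRel_def] at hab ⊢
        change (((g : ↥(E Q)) : V ≃ₗ[F] V) (a : V) - ((g : ↥(E Q)) : V ≃ₗ[F] V) (b : V)) ∈ Submodule.span F {u}
        have h1 : ((a : V) - (b : V)) ∈ Submodule.span F {u} := hab
        have h2 := hN g g.2 _ h1
        rwa [map_sub] at h2)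
      one_smul := by
        intro x
        induction x using Quotient.inductionOn' with | _ w => ?_
        rfl
      mul_smul := by
        intro g h x
        induction x using Quotient.inductionOn' with | _ w => ?_
        rfl }
  have hsm : ∀ (g : ↥T) (w : ↥A), (g • (Submodule.Quotient.mk w : ↥A ⧸ N)) =
      Submodule.Quotient.mk (⟨((g : ↥(E Q)) : V ≃ₗ[F] V) w, hA g g.2 w w.2⟩ : ↥A) := fun _ _ => rfl
  have hfinA : Finite (↥A ⧸ N) := Quotient.finite _
  have h1 := hT.card_modEq_card_fixedPoints (↥A ⧸ N)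
  have h2 : p ∣ Nat.card (↥A ⧸ N) := by
    have h3 := finrank_prp hG.nondeg h0
    have h4 : finrank F N ≤ 1 := by
      have h5 : finrank F N = finrank F (N.map A.subtype) :=
        (LinearEquiv.finrank_eq (Submodule.equivMapOfInjective A.subtype A.subtype_injective N))
      rw [h5]
      refine (Submodule.finrank_mono (Submodule.map_comap_le _ _)).trans ?_
      rw [finrank_span_singleton h0]
    have h5 := Submodule.finrank_quotient_add_finrank N
    have h6 := hG.dim
    have h7 : finrank F (↥A ⧸ N) ≠ 0 := by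
      have h8 : finrank F ↥A + 1 = finrank F V := h3
      omega
    rw [Module.natCard_eq_pow_finrank (K := F), hF]
    exact dvd_pow (dvd_pow_self _ (by omega)) h7
  have h3 : p ∣ Nat.card (MulAction.fixedPoints ↥T (↥A ⧸ N)) :=
    Nat.modEq_zero_iff_dvd.1 (h1.symm.trans (Nat.modEq_zero_iff_dvd.2 h2))
  have h4 : (0 : ↥A ⧸ N) ∈ MulAction.fixedPoints ↥T (↥A ⧸ N) := by
    intro g
    change g • (Submodule.Quotient.mk (0 : ↥A) : ↥A ⧸ N) = Submodule.Quotient.mk 0
    rw [hsm]
    congr 1
    apply Subtype.ext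
    exact map_zero _
  have h5 : Nontrivial (MulAction.fixedPoints ↥T (↥A ⧸ N)) := by
    rw [← Finite.one_lt_card_iff_nontrivial]
    have h6 : 0 < Nat.card (MulAction.fixedPoints ↥T (↥A ⧸ N)) := by
      have : Nonempty (MulAction.fixedPoints ↥T (↥A ⧸ N)) := ⟨⟨_, h4⟩⟩
      exact Nat.card_pos
    exact lt_of_lt_of_le hp.out.one_lt (Nat.le_of_dvd h6 h3)
  obtain ⟨⟨x, hx⟩, hne⟩ := _root_.exists_ne (⟨_, h4⟩ : MulAction.fixedPoints ↥T (↥A ⧸ N))
  obtain ⟨w, rfl⟩ := Submodule.Quotient.mk_surjective N x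
  refine ⟨w, mem_prp.1 w.2, fun h => hne ?_, fun g hg => ?_⟩
  · apply Subtype.ext
    exact (Submodule.Quotient.mk_eq_zero N).2 h
  · have h6 := hx ⟨g, hg⟩
    rw [hsm, Submodule.Quotient.eq] at h6
    exact h6

/-- **`p`-subgroups normalised by `y`, `K y` a hyperbolic plane.** -/
theorem v_norm_plane (hG : Good Q) {f : ℕ} (hf : 1 ≤ f) (hF : Nat.card F = p ^ f) {l : ℕ} [hl : Fact l.Prime]
    (hl2 : l ≠ 2) (hlF : (l : F) ≠ 0) {y : ↥(E Q)} (hy : y ^ l = 1) (hy1 : y ≠ 1)
    (hirr : Irr (en Q y) (R (en Q y))) {m : ℕ} (hm : finrank F (R (en Q y)) = 2 * m)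
    (hK : finrank F (K (en Q y)) = 2) {e : V} (he : e ∈ K (en Q y)) (he0 : e ≠ 0) (hQe : Q e = 0)
    {T : Subgroup ↥(E Q)} (hT : IsPGroup p T) (hyT : ∀ g, g ∈ T ↔ y * g * y⁻¹ ∈ T) :
    v p T ≤ f * (finrank F V - 2) := by
  classical
  have hfinE : Finite ↥(E Q) := finite_E
  have hfinF : Finite F := finite_F hG
  have hfd : FiniteDimensional F V := inferInstance
  have hy' : en Q y ^ l = 1 := by rw [← map_pow, hy, map_one]
  have hadd := finrank_add (en Q y)
  have hpF : (p : F) = 0 := by
    have hft : Fintype F := Fintype.ofFinite F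
    have h2 : (Fintype.card F : F) = 0 := FiniteField.cast_card_eq_zero F
    rw [← Nat.card_eq_fintype_card, hF, Nat.cast_pow] at h2
    exact pow_eq_zero_iff (by omega) |>.1 h2
  have hyinv : ∀ g ∈ T, y⁻¹ * g * y ∈ T := by
    intro g hg
    rw [hyT]
    have h2 : y * (y⁻¹ * g * y) * y⁻¹ = g := by group
    rwa [h2]
  -- the fixed space
  let U₀ : Submodule F V :=
    { carrier := {v | ∀ g ∈ T, en Q g v = v}
      add_mem' := fun {a b} ha hb g hg => by rw [map_add, ha g hg, hb g hg]
      zero_mem' := fun g _ => map_zero _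
      smul_mem' := fun c v hv g hg => by rw [map_smul, hv g hg] }
  have hy0 : ∀ u ∈ U₀, en Q y u ∈ U₀ := by
    intro u hu g hg
    have h3 := hu _ (hyinv g hg)
    have h4 : g * y = y * (y⁻¹ * g * y) := by group
    rw [← Module.End.mul_apply, ← map_mul, h4, map_mul, Module.End.mul_apply, h3]
  have hnd : ∀ v ∈ K (en Q y), (∀ u ∈ K (en Q y), polarBilin Q u v = 0) → v = 0 := fun w hw h =>
    nondeg_K (isom_en y) (polar_nondeg hG) hy' hlF hw h
  have hKR : ∀ k ∈ K (en Q y), ∀ r ∈ R (en Q y), polar Q k r = 0 := fun k hk r hr => perp_KR (isom_en y) hk hr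
  rcases hirr (R (en Q y) ⊓ U₀) inf_le_left (fun u hu => ⟨R_inv rfl hu.1, hy0 u hu.2⟩) with h | h
  · -- `U₀ ≤ K y`
    obtain ⟨u, h0, hu, hfix⟩ := exists_sing_fixed hG hf hF hT
    have huU : u ∈ U₀ := fun g hg => hfix g hg
    have huK : u ∈ K (en Q y) := by
      obtain ⟨k, hk, r, hr, hkr⟩ := decomp_mem hy' hlF hy0 huU
      rw [h, Submodule.mem_bot] at hr
      rw [hkr, hr, add_zero]
      exact hk.1
    obtain ⟨u', hu'K, huu', hQu', hu'0, hdec⟩ := exists_pair hK hnd huK h0 hu
    have hyu : (y : V ≃ₗ[F] V) u = u := mem_K.1 huK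
    -- the second fixed space
    let U₂ : Submodule F V :=
      { carrier := {w | polar Q u w = 0 ∧ ∀ g ∈ T, en Q g w - w ∈ Submodule.span F {u}}
        add_mem' := fun {a b} ha hb => ⟨by rw [polar_add_right, ha.1, hb.1, add_zero], fun g hg => by
          rw [map_add, add_sub_add_comm]
          exact Submodule.add_mem _ (ha.2 g hg) (hb.2 g hg)⟩
        zero_mem' := ⟨polar_zero_right _ _, fun g _ => by rw [map_zero, sub_zero]; exact Submodule.zero_mem _⟩
        smul_mem' := fun c w hw => ⟨by rw [polar_smul_right, hw.1, smul_zero], fun g hg => by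
          rw [map_smul, ← smul_sub]
          exact Submodule.smul_mem _ _ (hw.2 g hg)⟩ }
    have hy2 : ∀ w ∈ U₂, en Q y w ∈ U₂ := by
      rintro w ⟨hw, hw2⟩
      refine ⟨?_, fun g hg => ?_⟩
      · have h1 := polar_map (E_le_O y.2) u w
        rw [hyu, hw] at h1
        exact h1
      · have h3 := hw2 _ (hyinv g hg)
        have h4 : g * y = y * (y⁻¹ * g * y) := by group
        rw [← Module.End.mul_apply, ← map_mul, h4, map_mul, Module.End.mul_apply, ← map_sub]
        rw [Submodule.mem_span_singleton] at h3 ⊢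
        obtain ⟨c, hc⟩ := h3
        refine ⟨c, ?_⟩
        rw [← hc, map_smul]
        congr 1
        exact hyu.symm
    obtain ⟨w, hw, hwu, hwT⟩ := exists_fixed_mod hG hf hF hT hu h0 hfix
    have hRU : R (en Q y) ≤ U₂ := by
      obtain ⟨k, hk, r, hr, hkr⟩ := decomp_mem hy' hlF hy2 (show w ∈ U₂ from ⟨hw, fun g hg => hwT g hg⟩)
      rcases hirr (R (en Q y) ⊓ U₂) inf_le_left (fun x hx => ⟨R_inv rfl hx.1, hy2 x hx.2⟩) with h1 | h1
      · exfalso
        rw [h1, Submodule.mem_bot] at hr
        apply hwu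
        rw [hkr, hr, add_zero, hdec k hk.1, hk.2.1, zero_smul, add_zero]
        exact Submodule.smul_mem _ _ (Submodule.mem_span_singleton_self u)
      · rw [← h1]; exact inf_le_right
    -- the linear forms
    let Φ : ↥T → (↥(R (en Q y)) →ₗ[F] F) := fun g =>
      ((polarBilin Q u').comp (en Q g.1)).comp (R (en Q y)).subtype
    have hΦ : ∀ (g : ↥T) (r : ↥(R (en Q y))), Φ g r = polar Q u' ((g.1 : V ≃ₗ[F] V) r) := fun _ _ => rfl
    have hgr : ∀ (g : ↥T) (r : ↥(R (en Q y))), (g.1 : V ≃ₗ[F] V) r = r + Φ g r • u := by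
      intro g r
      have h1 : (g.1 : V ≃ₗ[F] V) (r : V) - r ∈ Submodule.span F {u} := (hRU r.2).2 g.1 g.2
      rw [Submodule.mem_span_singleton] at h1
      obtain ⟨c, hc⟩ := h1
      have h2 : (g.1 : V ≃ₗ[F] V) (r : V) = r + c • u := by rw [hc]; abel
      have h3 : Φ g r = c := by
        rw [hΦ, h2, polar_add_right, hKR u' hu'K r r.2, polar_smul_right, polar_comm, huu']
        simp
      rw [h3]
      exact h2
    have hinj : Function.Injective Φ := by
      intro g h hgh
      have h1 : ((h⁻¹ * g : ↥T).1 : V ≃ₗ[F] V) = 1 := by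
        refine eq_one_of_fix_prp hG.nondeg (E_le_O (h⁻¹ * g : ↥T).1.2) hu h0 (fun w hw => ?_)
        change ((h.1 : ↥(E Q)) : V ≃ₗ[F] V).symm ((g.1 : V ≃ₗ[F] V) w) = w
        rw [LinearEquiv.symm_apply_eq]
        obtain ⟨k, hk, r, hr, rfl⟩ := decomp hy' hlF w
        rw [polar_add_right] at hw
        rw [hKR u huK r hr, add_zero] at hw
        have h2 := hdec k hk
        rw [hw, zero_smul, add_zero] at h2
        rw [map_add, map_add, h2, map_smul, map_smul, hfix g.1 g.2, hfix h.1 h.2, hgr g ⟨r, hr⟩, hgr h ⟨r, hr⟩, hgh]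
      have h2 : (h⁻¹ * g : ↥T) = 1 := Subtype.ext (Subtype.ext h1)
      exact (inv_mul_eq_one.1 h2).symm
    have h1 : Nat.card ↥T ≤ Nat.card (↥(R (en Q y)) →ₗ[F] F) := by
      have : Finite (↥(R (en Q y)) →ₗ[F] F) := DFunLike.finite _
      exact Nat.card_le_card_of_injective Φ hinj
    have h2 : Nat.card (↥(R (en Q y)) →ₗ[F] F) = p ^ (f * (finrank F V - 2)) := by
      rw [Module.natCard_eq_pow_finrank (K := F), hF, ← pow_mul, Module.finrank_linearMap, Module.finrank_self, mul_one]
      congr 2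
      omega
    rw [h2] at h1
    obtain ⟨k, hk⟩ := IsPGroup.iff_card.1 hT
    rw [hk] at h1
    simp only [v]
    rw [hk, hp.out.factorization_pow, Finsupp.single_eq_same]
    exact (Nat.pow_le_pow_iff_right hp.out.one_lt).1 h1
  · -- `T` centralises `y`
    have hRT : ∀ g ∈ T, ∀ r ∈ R (en Q y), (g : V ≃ₗ[F] V) r = r := by
      intro g hg r hr
      rw [← h] at hr
      exact hr.2 g hg
    have hTC : T ≤ centralizer {y} := by
      intro g hg
      rw [mem_centralizer_singleton_iff]
      apply en_injective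
      refine LinearMap.ext fun w => ?_
      obtain ⟨k, hk, r, hr, rfl⟩ := decomp hy' hlF w
      have h1 : en Q g k ∈ K (en Q y) := by
        obtain ⟨k', hk', r', hr', he'⟩ := decomp hy' hlF (en Q g k)
        have h2 : r' = 0 := by
          refine nondeg_R (isom_en y) (polar_nondeg hG) hy' hlF hr' (fun x hx => ?_)
          have h3 := polar_map (E_le_O g.2) k x
          rw [hRT g hg x hx, hKR k hk x hx] at h3
          have h4 : polar Q (en Q g k) x = 0 := h3
          rw [he', polar_add_left, hKR k' hk' x hx, zero_add] at h4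
          rw [polarBilin_apply_apply, polar_comm]
          exact h4
        rw [he', h2, add_zero]
        exact hk'
      rw [map_mul, map_mul, Module.End.mul_apply, Module.End.mul_apply, map_add, map_add, map_add, map_add,
        mem_K.1 hk, mem_K.1 h1]
      congr 1
      have h2 : en Q y r ∈ R (en Q y) := R_inv rfl hr
      have h3 : en Q g r = r := hRT g hg r hr
      have h4 : en Q g (en Q y r) = en Q y r := hRT g hg _ h2
      rw [h3, h4]
    have h1 := (card_dvd_of_le hTC).trans (card_cent_plane hG hl2 hlF hy hy1 hirr hm hK he he0 hQe)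
    have hq : 1 < Nat.card F := Finite.one_lt_card
    have hm1 : 1 ≤ m := by
      have := hG.dim
      omega
    have h2 : v p T ≤ ((Nat.card F ^ m + 1) * (2 * (Nat.card F - 1))).factorization p :=
      (Nat.factorization_le_iff_dvd Nat.card_pos.ne' (mul_ne_zero (Nat.succ_ne_zero _) (by omega))).2 h1 p
    have h3 : ((Nat.card F ^ m + 1) * (2 * (Nat.card F - 1))).factorization p ≤ 1 := by
      rw [hF]
      exact fac_plane hp.out hf hm1
    have h4 := hG.dim
    have h5 : 1 * 1 ≤ f * (finrank F V - 2) := Nat.mul_le_mul hf (by omega)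
    omega

end Cfsg.Agent.H311.PD
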