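import Cfsg.Agent.H311.PD.Ord
import Cfsg.Agent.H200.RowOrthF

/-!
# S4246, orthogonal rows: from `E Q` to `P Q` (helper311)
-/

set_option autoImplicit false
set_option linter.unusedSectionVars false

namespace Cfsg.Agent.H311.PD

open QuadraticMap Module Subgroup Cfsg.Agent.LieClassical.OrthCore Cfsg.Agent.LieClassical.OrthTrans
open Cfsg.Agent.ClassicalGeometry.OrthSemi Cfsg.Agent.ClassicalGeometry.OrthAut1
open Cfsg.Agent.H200.LinFix Cfsg.Agent.H200.RowOrth
open Cfsg.Agent.H160.PD (v v_mono v_eq_zero v_pos Fx mem_Fx out)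

/-! ### general groups -/

section gen

variable {S : Type*} [Group S]

theorem Fx_conj (s : S) : Fx (MulAut.conj s) = centralizer ({s} : Set S) := by
  ext x
  rw [mem_Fx, mem_centralizer_singleton_iff, MulAut.conj_apply, mul_inv_eq_iff_eq_mul]
  exact eq_comm

/-- `out S · |S| = |Aut S|` -/
theorem out_mul [Finite S] (hZ : center S = ⊥) : out S * Nat.card S = Nat.card (MulAut S) := by
  rw [out, mul_comm, ← Subgroup.card_mul_index (MulAut.conj : S →* MulAut S).range]
  congr 1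
  exact Nat.card_congr (MonoidHom.ofInjective (Cfsg.Agent.H160.PD.conj_injective hZ)).toEquiv

/-- commuting elements in a group with cyclic Sylow subgroups -/
theorem uniq_of_sylow [Finite S] {r : ℕ} [hr : Fact r.Prime] (P : Sylow r S) (hP : IsCyclic ↥(P : Subgroup S)) :
    Cfsg.Agent.H160.PD.Uniq S r := by
  intro x y hx hy hxy
  have hA : IsPGroup r ↥(zpowers x ⊔ zpowers y) :=
    (Cfsg.Agent.H160.PD.isPGroup_zpowers hx).to_sup_of_normal_right' (Cfsg.Agent.H160.PD.isPGroup_zpowers hy)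
      (Cfsg.Agent.H160.PD.zpowers_le_normalizer_of_comm hxy)
  obtain ⟨R, hR⟩ := hA.exists_le_sylow
  have hRc : IsCyclic ↥(R : Subgroup S) := (Sylow.equiv R P).isCyclic.2 hP
  have h1 : zpowers y = zpowers x := by
    refine OddOrderLocal.CyclicSub.eq_of_card_eq_of_le_cyclic hRc (le_sup_right.trans hR) (le_sup_left.trans hR) ?_
    rw [Nat.card_zpowers, Nat.card_zpowers, hx, hy]
  rw [← h1]
  exact mem_zpowers y

end gen

/-! ### `E Q → P Q` -/

variable {F V : Type*} [Field F] [AddCommGroup V] [Module F V] {Q : QuadraticForm F V} [Finite V]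

theorem card_E (Q : QuadraticForm F V) : Nat.card ↥(E Q) = Nat.card (P Q) * Nat.card (center ↥(E Q)) :=
  Subgroup.card_eq_card_quotient_mul_card_subgroup _

theorem v_P {r : ℕ} (h : ¬ r ∣ Nat.card (center ↥(E Q))) : v r (P Q) = v r ↥(E Q) := by
  have hfinE : Finite ↥(E Q) := finite_E
  simp only [v]
  rw [card_E, Nat.factorization_mul Nat.card_pos.ne' Nat.card_pos.ne', Finsupp.add_apply,
    Nat.factorization_eq_zero_of_not_dvd h, add_zero]

/-- the centre has order prime to the characteristic -/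
theorem not_dvd_center_char (hG : Good Q) {p : ℕ} [hp : Fact p.Prime] (hpF : (p : F) = 0) :
    ¬ p ∣ Nat.card (center ↥(E Q)) := by
  have hfinE : Finite ↥(E Q) := finite_E
  by_cases hp2 : p = 2
  · subst hp2
    have h1 : center ↥(E Q) = ⊥ := by
      rw [eq_bot_iff]
      intro z hz
      rw [mem_bot]
      obtain ⟨c, hc⟩ := center_scalar hG hz
      obtain ⟨u, hu, -⟩ := hG.sing
      have h2 : (z : V ≃ₗ[F] V) ((z : V ≃ₗ[F] V) u) = u :=
        congrArg (fun g : ↥(E Q) => (g : V ≃ₗ[F] V) u) (center_sq hG hz)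
      rw [hc, hc, smul_smul] at h2
      have h3 : (c * c - 1) • u = 0 := by rw [sub_smul, h2, one_smul, sub_self]
      have h4 : c ^ 2 ^ 1 = 1 := by
        rcases smul_eq_zero.1 h3 with h4 | h4
        · rw [pow_one, pow_two]; exact sub_eq_zero.1 h4
        · exact absurd h4 hu
      have h5 := scalar_one hpF h4
      apply Subtype.ext
      ext w
      rw [hc, h5, one_smul]
      rfl
    rw [h1, Subgroup.card_bot]
    norm_num
  · exact not_dvd_center hG hp2

theorem v_P_char (hG : Good Q) {p : ℕ} [hp : Fact p.Prime] (hpF : (p : F) = 0) : v p (P Q) = v p ↥(E Q) :=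
  v_P (not_dvd_center_char hG hpF)

theorem v_P_odd (hG : Good Q) {p : ℕ} [hp : Fact p.Prime] (hp2 : p ≠ 2) : v p (P Q) = v p ↥(E Q) :=
  v_P (not_dvd_center hG hp2)

/-- the centraliser of the image -/
theorem centralizer_mk (hG : Good Q) {l : ℕ} (hl : Odd l) {y : ↥(E Q)} (hy : y ^ l = 1) :
    centralizer ({(QuotientGroup.mk y : P Q)} : Set (P Q)) =
      (centralizer ({y} : Set ↥(E Q))).map (QuotientGroup.mk' (center ↥(E Q))) := by
  ext x
  rw [mem_centralizer_singleton_iff, mem_map]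
  constructor
  · intro h
    obtain ⟨a, rfl⟩ := QuotientGroup.mk_surjective x
    exact ⟨a, mem_centralizer_singleton_iff.2 (comm_of_mk hG hl hy h.symm).symm, rfl⟩
  · rintro ⟨a, ha, rfl⟩
    have h1 := mem_centralizer_singleton_iff.1 ha
    exact congrArg (QuotientGroup.mk : ↥(E Q) → P Q) h1

theorem card_centralizer_mk (hG : Good Q) {l : ℕ} (hl : Odd l) {y : ↥(E Q)} (hy : y ^ l = 1) :
    Nat.card (centralizer ({(QuotientGroup.mk y : P Q)} : Set (P Q))) ∣ Nat.card (centralizer ({y} : Set ↥(E Q))) := by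
  rw [centralizer_mk hG hl hy]
  exact Subgroup.card_map_dvd _ _

theorem v_centralizer_mk (hG : Good Q) {l : ℕ} (hl : Odd l) {y : ↥(E Q)} (hy : y ^ l = 1) (r : ℕ) :
    v r (centralizer ({(QuotientGroup.mk y : P Q)} : Set (P Q))) ≤ v r (centralizer ({y} : Set ↥(E Q))) := by
  have hfinE : Finite ↥(E Q) := finite_E
  exact (Nat.factorization_le_iff_dvd Nat.card_pos.ne' Nat.card_pos.ne').2 (card_centralizer_mk hG hl hy) r

/-- lifting of a conjugation -/
theorem lift_norm (hG : Good Q) {y a : ↥(E Q)} {l : ℕ} (hl : Odd l) (hy : y ^ l = 1) {j : ℕ}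
    (hc : (QuotientGroup.mk a : P Q) * QuotientGroup.mk y * (QuotientGroup.mk a)⁻¹ = (QuotientGroup.mk y) ^ j) :
    a * y * a⁻¹ = y ^ j := by
  have h1 : (y ^ j)⁻¹ * (a * y * a⁻¹) ∈ Subgroup.center ↥(E Q) := by
    rw [← QuotientGroup.eq_one_iff]
    have h2 : (QuotientGroup.mk ((y ^ j)⁻¹ * (a * y * a⁻¹)) : P Q) =
      ((QuotientGroup.mk y) ^ j)⁻¹ * (QuotientGroup.mk a * QuotientGroup.mk y * (QuotientGroup.mk a)⁻¹) := rfl
    rw [h2, hc]
    group
  set z := (y ^ j)⁻¹ * (a * y * a⁻¹) with hz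
  have h3 : a * y * a⁻¹ = y ^ j * z := by rw [hz]; group
  have h4 : z ^ l = 1 := by
    have h5 : (y ^ j * z) ^ l = 1 := by rw [← h3, conj_pow, hy, mul_one, mul_inv_cancel]
    have h6 : Commute (y ^ j) z := Subgroup.mem_center_iff.1 h1 (y ^ j)
    rwa [h6.mul_pow, ← pow_mul, mul_comm j l, pow_mul, hy, one_pow, one_mul] at h5
  rw [h3, center_pow_odd hG h1 hl h4, mul_one]

/-- **The order of the normaliser.** -/
theorem card_normalizer (hG : Good Q) {l : ℕ} [hl : Fact l.Prime] (hl2 : l ≠ 2) (hlF : (l : F) ≠ 0) {y : ↥(E Q)}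
    (hy : y ^ l = 1) (hy1 : y ≠ 1) (hirr : Irr (en Q y) (R (en Q y))) :
    Nat.card (normalizer ((zpowers (QuotientGroup.mk y : P Q) : Subgroup (P Q)) : Set (P Q))) ∣
      Nat.card (centralizer ({y} : Set ↥(E Q))) * finrank F (R (en Q y)) := by
  have hfinE : Finite ↥(E Q) := finite_E
  have hlo := hl.out.odd_of_ne_two hl2
  have hox := orderOf_mk hG hlo hy hy1
  refine (Cfsg.Agent.H160.PD.card_normalizer_dvd hl.out hox fun n hn => ?_).trans
    (Nat.mul_dvd_mul_right (card_centralizer_mk hG hlo hy) _)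
  rw [mem_centralizer_singleton_iff]
  set x : P Q := QuotientGroup.mk y with hx
  have h1 : n * x * n⁻¹ ∈ zpowers x := (mem_normalizer_iff.1 hn x).1 (mem_zpowers x)
  obtain ⟨j, hj⟩ : ∃ j : ℕ, x ^ j = n * x * n⁻¹ := by
    rw [← (isOfFinOrder_of_finite x).mem_powers_iff_mem_zpowers] at h1
    exact h1
  obtain ⟨a, ha⟩ := QuotientGroup.mk_surjective n
  have h2 : j ^ finrank F (R (en Q y)) ≡ 1 [MOD l] := by
    refine norm_pow hG hlF hy hy1 hirr (a := a) (lift_norm hG hlo hy ?_)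
    change (QuotientGroup.mk a : P Q) * x * (QuotientGroup.mk a)⁻¹ = x ^ j
    rw [ha, hj]
  have h3 : ∀ k : ℕ, n ^ k * x * (n ^ k)⁻¹ = x ^ j ^ k := by
    intro k
    induction k with
    | zero => rw [pow_zero, pow_zero, pow_one, one_mul, inv_one, mul_one]
    | succ k ih =>
      have h4 : n ^ (k + 1) * x * (n ^ (k + 1))⁻¹ = n * (n ^ k * x * (n ^ k)⁻¹) * n⁻¹ := by
        rw [pow_succ']; group
      rw [h4, ih, ← conj_pow, ← hj, ← pow_mul, pow_succ, mul_comm]
  have h5 : x ^ j ^ finrank F (R (en Q y)) = x := by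
    conv_rhs => rw [← pow_one x]
    rw [pow_eq_pow_iff_modEq, hox]
    exact h2
  have h6 := h3 (finrank F (R (en Q y)))
  rw [h5, mul_inv_eq_iff_eq_mul] at h6
  exact h6

/-- **Automorphisms of odd prime order fixing an element of order `l`.** -/
theorem lift_aut (hG : Good Q) [IsSimpleGroup (P Q)] (hna : ¬ IsMulCommutative (P Q))
    (haut : ∀ a : MulAut (P Q), ∃ M : Gam Q, a = Psi Q M) {b : MulAut (P Q)} (hb : (orderOf b).Prime)
    (hb2 : orderOf b ≠ 2) {l : ℕ} [hl : Fact l.Prime] (hl2 : l ≠ 2)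
    (hZ : ∀ y : ↥(E Q), y ^ l = 1 → IrrZ (en Q y) (R (en Q y))) {x : P Q} (hx : orderOf x = l) (hbx : b x = x) :
    ∃ t y : ↥(E Q), t ^ orderOf b = 1 ∧ t ≠ 1 ∧ b = MulAut.conj (QuotientGroup.mk t : P Q) ∧ y ^ l = 1 ∧ y ≠ 1 ∧
      (QuotientGroup.mk y : P Q) = x ∧ t * y = y * t := by
  have hbF := Fact.mk hb
  obtain ⟨M, hM⟩ := haut b
  have hlo := hl.out.odd_of_ne_two hl2
  obtain ⟨y, hy, hyx⟩ := lift_pow hG x hlo (by rw [← hx, pow_orderOf_eq_one])
  have hy1 : y ≠ 1 := by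
    rintro rfl
    rw [← hyx, QuotientGroup.mk_one, orderOf_one] at hx
    exact hl.out.one_lt.ne hx
  rcases inner_or_field hG hb hb2 (M := M) (by rw [← hM]) with ⟨g, hg⟩ | ⟨σ, c, hMs, hσ⟩
  · obtain ⟨t, ht, ht1, hat⟩ := exists_lift_elt hG hb2 (a := b) rfl (s := g) (by rw [hM, hg]) hna
    refine ⟨t, y, ht, ht1, hat, hy, hy1, hyx, ?_⟩
    rw [hat, MulAut.conj_apply, mul_inv_eq_iff_eq_mul, ← hyx] at hbx
    exact (comm_of_mk hG hlo hy hbx.symm).symm
  · exfalso
    refine not_fixed_field hG hl2 hMs hσ hZ hx ?_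
    rw [← hM]
    exact hbx

end Cfsg.Agent.H311.PD
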