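import Cfsg.Agent.H14.PD.Fix
import Cfsg.Agent.H200.RowOrthJ

/-!
# S4246, row of `POmega^+_8(q)`: Sylow `l`-subgroups, `l ∣ q² + 1`, normalise no `p`-subgroup (helper311)
-/

set_option autoImplicit false
set_option linter.unusedSectionVars false

namespace Cfsg.Agent.H311.PD

open QuadraticMap Module Cfsg.Agent.LieClassical.OrthCore Cfsg.Agent.LieClassical.OrthTrans
open Cfsg.Agent.ClassicalGeometry.OrthSemi Cfsg.Agent.ClassicalGeometry.OrthAut1
open Cfsg.Agent.H200.LinFix Cfsg.Agent.H200.RowOrth Cfsg.Agent.H568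
open Cfsg.Agent.H160.PD (v v_mono v_eq_zero v_pos Fx mem_Fx NoOdd noOdd_of)
open Cfsg.Agent.H14.PD

/-- an orbit whose length is not divisible by `m` -/
theorem exists_orbit {T : Type*} [Group T] {S : Type*} [Finite S] [MulAction T S] {m : ℕ} (h : ¬ m ∣ Nat.card S) :
    ∃ w : S, ¬ m ∣ Nat.card (MulAction.orbit T w) := by
  classical
  by_contra hcon
  push Not at hcon
  apply h
  have := Fintype.ofFinite (Quotient (MulAction.orbitRel T S))
  rw [Nat.card_congr (MulAction.selfEquivSigmaOrbits T S), Nat.card_sigma]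
  exact Finset.dvd_sum fun ω _ => hcon _

variable {F V : Type*} [Field F] [AddCommGroup V] [Module F V] {Q : QuadraticForm F V}

/-- the action on an invariant subspace -/
@[instance_reducible]
noncomputable def actOn {T : Subgroup ↥(E Q)} {W : Submodule F V} (hW : ∀ g ∈ T, ∀ w ∈ W, en Q g w ∈ W) : MulAction T W where
  smul g w := ⟨en Q (g : ↥(E Q)) w, hW g g.2 w w.2⟩
  one_smul _ := Subtype.ext rfl
  mul_smul _ _ _ := Subtype.ext rfl

section

variable [Finite V] {l : ℕ} [hl : Fact l.Prime]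

theorem card_modEq_fixS {T : Subgroup ↥(E Q)} (hT : IsPGroup l T) {W : Submodule F V}
    (hW : ∀ g ∈ T, ∀ w ∈ W, en Q g w ∈ W) : Nat.card W ≡ Nat.card ↥(W ⊓ fixS T) [MOD l] := by
  let act : MulAction T W := actOn hW
  have h1 := hT.card_modEq_card_fixedPoints W
  have h2 : Nat.card (MulAction.fixedPoints T W) = Nat.card ↥(W ⊓ fixS T) := by
    refine Nat.card_congr
      { toFun := fun w => ⟨(w : W), (w : W).2, fun g hg => congrArg Subtype.val (w.2 ⟨g, hg⟩)⟩
        invFun := fun w => ⟨⟨w, w.2.1⟩, fun g => Subtype.ext (w.2.2 g g.2)⟩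
        left_inv := fun w => rfl
        right_inv := fun w => rfl }
  rwa [h2] at h1

theorem pow_modEq_fixS [Finite F] {T : Subgroup ↥(E Q)} (hT : IsPGroup l T) {W : Submodule F V}
    (hW : ∀ g ∈ T, ∀ w ∈ W, en Q g w ∈ W) :
    Nat.card F ^ finrank F W ≡ Nat.card F ^ finrank F ↥(W ⊓ fixS T) [MOD l] := by
  have hfd : FiniteDimensional F V := inferInstance
  rw [← Module.natCard_eq_pow_finrank (K := F) (V := W), ← Module.natCard_eq_pow_finrank (K := F) (V := ↥(W ⊓ fixS T))]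
  exact card_modEq_fixS hT hW

theorem pow_mod [Finite F] (hld : l ∣ Nat.card F ^ 4 - 1) {k : ℕ} (hk : 4 ∣ k) : Nat.card F ^ k ≡ 1 [MOD l] := by
  obtain ⟨c, rfl⟩ := hk
  have h1 : 1 ≤ Nat.card F ^ 4 := Nat.one_le_pow _ _ Nat.card_pos
  have h2 : Nat.card F ^ 4 ≡ 1 [MOD l] := ((Nat.modEq_iff_dvd' h1).2 hld).symm
  rw [pow_mul]
  simpa using h2.pow c

theorem dvd_of_mod [Finite F] (hd : Ordd l (Nat.card F) 4) {k : ℕ} (hk : Nat.card F ^ k ≡ 1 [MOD l]) : 4 ∣ k :=
  hd k ((Nat.modEq_iff_dvd' (Nat.one_le_pow _ _ Nat.card_pos)).1 hk.symm)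

/-- **No fixed vectors.** -/
theorem no_fix_four [Finite F] {p f : ℕ} (H : Plus Q 4 p f) (hd : Ordd l (Nat.card F) 4) (hld : l ∣ Nat.card F ^ 4 - 1)
    {T : Subgroup ↥(E Q)} (hT : IsPGroup l T) (hTv : v l T = v l ↥(E Q)) : fixS T = ⊥ := by
  classical
  have hfd : FiniteDimensional F V := inferInstance
  have hfinE : Finite ↥(E Q) := finite_E
  have hq2 : 2 ≤ Nat.card F := Finite.one_lt_card
  by_contra hne
  have h1 := pow_modEq_fixS hT (W := ⊤) (fun _ _ _ _ => trivial)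
  rw [top_inf_eq, finrank_top, H.hV] at h1
  have h2 := dvd_of_mod hd (h1.symm.trans (pow_mod hld (by norm_num)))
  have h3 : finrank F (fixS T) ≠ 0 := fun h => hne (Submodule.finrank_eq_zero.1 h)
  obtain ⟨u, hu, hu0, hQu⟩ := Cfsg.Agent.LieClassical.OrthFinite.exists_sing_mem (Q := Q) (fixS T) (by omega)
  have h4 := card_stabilizer H.good hQu hu0
  rw [H.hsing, Nat.add_sub_cancel] at h4
  let S : Subgroup ↥(E Q) :=
    { carrier := {g | (g : V ≃ₗ[F] V) u = u}
      mul_mem' := fun {a b} ha hb => by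
        change (a : V ≃ₗ[F] V) ((b : V ≃ₗ[F] V) u) = u
        rw [show (b : V ≃ₗ[F] V) u = u from hb]
        exact ha
      one_mem' := rfl
      inv_mem' := fun {a} ha => by
        change (a : V ≃ₗ[F] V).symm u = u
        rw [LinearEquiv.symm_apply_eq]
        exact (show (a : V ≃ₗ[F] V) u = u from ha).symm }
  have hTS : T ≤ S := fun g hg => hu g hg
  change (Nat.card F ^ 4 - 1) * (Nat.card F ^ (4 - 1) + 1) * Nat.card S = _ at h4
  have h5 : v l T ≤ v l S := v_mono hTS l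
  have h6 : Nat.card F ^ 4 - 1 ≠ 0 := by
    have := Nat.one_lt_pow (n := 4) (by norm_num) (show 1 < Nat.card F by omega)
    omega
  have h7 : v l ↥(E Q) = (Nat.card F ^ 4 - 1).factorization l + (Nat.card F ^ (4 - 1) + 1).factorization l +
      v l S := by
    rw [v, ← h4, Nat.factorization_mul (Nat.mul_ne_zero h6 (Nat.succ_ne_zero _)) Nat.card_pos.ne',
      Nat.factorization_mul h6 (Nat.succ_ne_zero _)]
    rfl
  have h8 := hl.out.factorization_pos_of_dvd h6 hld
  omega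

/-- **The radical of the fixed space is zero.** -/
theorem no_rad_four [Finite F] {p f : ℕ} (H : Plus Q 4 p f) (hlF : (l : F) ≠ 0)
    (hd : Ordd l (Nat.card F) 4) (hld : l ∣ Nat.card F ^ 4 - 1)
    (hv : 2 * (Nat.card F ^ 4 - 1).factorization l ≤ v l ↥(E Q))
    {T : Subgroup ↥(E Q)} (hT : IsPGroup l T) (hTv : v l T = v l ↥(E Q)) {Z : Submodule F V}
    (hTZ : ∀ g ∈ T, ∀ w ∈ Z, en Q g w ∈ Z) (hti : ∀ u ∈ Z, ∀ w ∈ Z, polarBilin Q u w = 0) : Z = ⊥ := by
  classical
  have hfd : FiniteDimensional F V := inferInstance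
  have hfinE : Finite ↥(E Q) := finite_E
  have hq2 : 2 ≤ Nat.card F := Finite.one_lt_card
  by_contra hne
  have h0 := no_fix_four H hd hld hT hTv
  have hZ0 : finrank F Z ≠ 0 := fun h => hne (Submodule.finrank_eq_zero.1 h)
  have h1 := pow_modEq_fixS hT hTZ
  rw [h0, inf_bot_eq, finrank_bot, pow_zero] at h1
  have h2 := dvd_of_mod hd h1
  have h3 := finrank_ti_le (Q := Q) (U := ⊤) (W := Z) (fun w _ h => polar_nondeg H.good w fun u => h u trivial)
    le_top hti
  rw [finrank_top, H.hV] at h3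
  have hZ4 : finrank F Z = 4 := by omega
  have h6 : Nat.card F ^ 4 - 1 ≠ 0 := by
    have := Nat.one_lt_pow (n := 4) (by norm_num) (show 1 < Nat.card F by omega)
    omega
  set a := (Nat.card F ^ 4 - 1).factorization l with ha
  have ha1 : 1 ≤ a := hl.out.factorization_pos_of_dvd h6 hld
  -- the action on the nonzero vectors
  let act : MulAction T {w : Z // w ≠ 0} :=
    { smul := fun g w => ⟨⟨en Q (g : ↥(E Q)) (w : Z), hTZ g g.2 _ (w : Z).2⟩, fun h => w.2 (Subtype.ext (by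
        have h1 : en Q (g : ↥(E Q)) ((w : Z) : V) = 0 := congrArg Subtype.val h
        rw [en_apply] at h1
        exact (LinearEquiv.map_eq_zero_iff _).1 h1))⟩
      one_smul := fun w => rfl
      mul_smul := fun g h w => rfl }
  have hcard : Nat.card {w : Z // w ≠ 0} = Nat.card F ^ 4 - 1 := by
    have e1 : Nat.card {w : Z // w ≠ 0} = (({0}ᶜ : Set Z)).ncard := rfl
    rw [e1, Set.ncard_compl, Set.ncard_singleton, Module.natCard_eq_pow_finrank (K := F), hZ4]
  have hnd : ¬ l ^ (a + 1) ∣ Nat.card {w : Z // w ≠ 0} := by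
    rw [hcard]
    intro h
    have := (hl.out.pow_dvd_iff_le_factorization h6).1 h
    omega
  obtain ⟨w, hw⟩ := exists_orbit (T := T) hnd
  -- the stabiliser is not trivial
  have h7 : Nat.card (MulAction.orbit T w) * Nat.card (MulAction.stabilizer T w) = Nat.card T := by
    have h8 := (MulAction.stabilizer T w).index_mul_card
    rwa [MulAction.index_stabilizer] at h8
  obtain ⟨m, hm⟩ := IsPGroup.iff_card.1 hT
  have hvm : v l T = m := by rw [v, hm, hl.out.factorization_pow, Finsupp.single_eq_same]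
  have h9 : l ∣ Nat.card (MulAction.stabilizer T w) := by
    by_contra hcop
    apply hw
    have h10 : l ^ (a + 1) ∣ Nat.card T := by
      rw [hm]
      exact pow_dvd_pow l (by omega)
    rw [← h7] at h10
    exact (Nat.Coprime.pow_left _ ((Nat.Prime.coprime_iff_not_dvd hl.out).2 hcop)).dvd_of_dvd_mul_right h10
  obtain ⟨⟨⟨s, hsT⟩, hsw⟩, hs⟩ := exists_prime_orderOf_dvd_card' l h9
  rw [Subgroup.orderOf_mk, Subgroup.orderOf_mk] at hs
  have hsl : s ^ l = 1 := by rw [← hs]; exact pow_orderOf_eq_one s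
  have hs1 : s ≠ 1 := by
    rintro rfl
    rw [orderOf_one] at hs
    exact hl.out.one_lt.ne hs
  have hsw' : en Q s ((w : Z) : V) = ((w : Z) : V) :=
    congrArg (fun x : {w : Z // w ≠ 0} => ((x : Z) : V)) hsw
  have hs' : en Q s ^ l = 1 := by rw [← map_pow, hsl, map_one]
  have hw0 : ((w : Z) : V) ≠ 0 := fun h => w.2 (Subtype.ext h)
  -- `Z ≤ K s`
  have hZs : ∀ u ∈ Z, en Q s u ∈ Z := fun u hu => hTZ s hsT u hu
  have hRZ : R (en Q s) ⊓ Z = ⊥ := by
    have h10 := dvd_finrank_le hd hlF hs' (W := R (en Q s) ⊓ Z) inf_le_left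
      (fun u hu => ⟨R_inv rfl hu.1, hZs u hu.2⟩)
    have h11 : finrank F ↥(R (en Q s) ⊓ Z) < finrank F Z := by
      refine Submodule.finrank_lt_finrank_of_lt (lt_of_le_of_ne inf_le_right fun h => hw0 ?_)
      have h12 : ((w : Z) : V) ∈ R (en Q s) ⊓ Z := by rw [h]; exact (w : Z).2
      exact eq_zero_of_mem hs' hlF hsw' h12.1
    exact Submodule.finrank_eq_zero.1 (by omega)
  have hZK : Z ≤ K (en Q s) := by
    intro u hu
    obtain ⟨k, hk, r, hr, rfl⟩ := decomp_mem hs' hlF hZs hu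
    rw [hRZ, Submodule.mem_bot] at hr
    rw [hr, add_zero]
    exact hk.1
  have h12 := finrank_ti_le (Q := Q) (U := K (en Q s)) (W := Z)
    (fun u hu h => nondeg_K (isom_en s) (polar_nondeg H.good) hs' hlF hu h) hZK hti
  have h13 := finrank_add (en Q s)
  have h14 := dvd_finrank_R hd hlF hs'
  have h15 : finrank F (R (en Q s)) ≠ 0 := by
    intro h
    rw [Submodule.finrank_eq_zero, R_eq_bot] at h
    exact hs1 (en_injective (h.trans (map_one _).symm))
  rw [H.hV] at h13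
  omega

end

/-- **Sylow `l`-subgroups, `l ∣ q² + 1`, normalise no nontrivial `p`-subgroup.** -/
theorem no_norm_four [Finite V] [Finite F] {p f : ℕ} (H : Plus Q 4 p f) {l : ℕ} (hl : l.Prime) (_hl2 : l ≠ 2)
    (hd : Ordd l (Nat.card F) 4) (hld : l ∣ Nat.card F ^ 4 - 1)
    (hv : 2 * (Nat.card F ^ 4 - 1).factorization l ≤ v l ↥(E Q)) {T X : Subgroup ↥(E Q)} (hT : IsPGroup l T)
    (hTv : v l T = v l ↥(E Q)) (hX : IsPGroup p X) (hTX : ∀ g ∈ T, ∀ x ∈ X, g * x * g⁻¹ ∈ X) : X = ⊥ := by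
  classical
  have hfd : FiniteDimensional F V := inferInstance
  have := Fact.mk hl
  have := Fact.mk H.prime
  have hlF := H.cast_ne hl (e := 4) (by norm_num) hld
  set Z := fixS X with hZ
  set Z' := LinearMap.BilinForm.orthogonal (polarBilin Q) Z with hZ'
  have hmem : ∀ w, w ∈ Z' ↔ ∀ u ∈ Z, polarBilin Q u w = 0 := fun w => LinearMap.BilinForm.mem_orthogonal_iff
  have hTZ : ∀ g ∈ T, ∀ w ∈ Z, en Q g w ∈ Z := by
    intro g hg w hw
    refine fixS_inv (fun x hx => ?_) hw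
    have h1 := hTX g⁻¹ (inv_mem hg) x hx
    rwa [inv_inv] at h1
  have hTZ' : ∀ g ∈ T, ∀ w ∈ Z', en Q g w ∈ Z' := by
    intro g hg w hw
    rw [hmem] at hw ⊢
    intro u hu
    have h1 := isom_en g (en Q g⁻¹ u) w
    rw [← Module.End.mul_apply, ← map_mul, mul_inv_cancel, map_one, Module.End.one_apply] at h1
    rw [h1]
    exact hw _ (hTZ _ (inv_mem hg) u hu)
  have hXZ' : ∀ g ∈ X, ∀ w ∈ Z', en Q g w ∈ Z' := by
    intro g hg w hw
    rw [hmem] at hw ⊢
    intro u hu
    have h1 := isom_en g u w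
    rw [hu g hg] at h1
    rw [h1]
    exact hw u hu
  have hrad := no_rad_four H hlF hd hld hv hT hTv (Z := Z ⊓ Z') (fun g hg w hw => ⟨hTZ g hg w hw.1, hTZ' g hg w hw.2⟩)
    (fun u hu w hw => (hmem w).1 hw.2 u hu.1)
  have hZbot : Z' = ⊥ := by
    by_contra hne
    obtain ⟨w, hw, hw0, hwX⟩ := exists_fix H.hpF hX hne hXZ'
    apply hw0
    have : w ∈ Z ⊓ Z' := ⟨hwX, hw⟩
    rwa [hrad, Submodule.mem_bot] at this
  have h1 := finrank_perp H.good Z
  rw [← hZ', hZbot, finrank_bot, zero_add] at h1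
  have h2 : Z = ⊤ := Submodule.eq_top_of_finrank_eq h1
  rw [Subgroup.eq_bot_iff_forall]
  intro x hx
  apply en_injective (Q := Q)
  rw [map_one]
  refine LinearMap.ext fun w => ?_
  have h3 : w ∈ Z := h2 ▸ trivial
  exact h3 x hx

end Cfsg.Agent.H311.PD
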