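import Cfsg.Agent.H311.PD.Minus3
import Cfsg.Agent.H14.PD.Cent
import Cfsg.Agent.H160.PD.One
import Cfsg.Agent.H200.RowOrthF
import Cfsg.Agent.S0290
import Cfsg.Agent.S0818

/-!
# S4246, row `POmega^-_{2n}(q)` (helper311)

`row_ominus` : the row of the groups `POmega^-_{2n}(q)`.
-/

set_option autoImplicit false
set_option linter.unusedSectionVars false

namespace Cfsg.Agent.H311.PD

open QuadraticMap Module Subgroup Cfsg.Agent.LieClassical.OrthCore Cfsg.Agent.LieClassical.OrthTrans
open Cfsg.Agent.ClassicalGeometry.OrthSemi Cfsg.Agent.ClassicalGeometry.OrthAut1 Cfsg.Agent.AutOrth.Main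
open Cfsg.Agent.H200.LinFix Cfsg.Agent.H200.RowOrth Cfsg.Agent.LieClassical.QuadForms Cfsg.Agent.H208.Dict
open Cfsg.Agent.H160.PD (v v_mono v_eq_zero v_pos Fx mem_Fx out Good Two One NoOdd Inc)

section abs

variable {F V : Type*} [Field F] [AddCommGroup V] [Module F V] {Q : QuadraticForm F V} [Finite V] [Finite F]

/-- **The criterion, `(q, n) = (2, 4)`.** -/
theorem Dat2.one (D : Dat2 Q 2 1 4) {r : ℕ} (hr : Prm F 2 1 (2 * 4) r) : One (P Q) 2 r 0 0 0 := by
  classical
  have hfinE : Finite ↥(E Q) := finite_E
  have hV := D.dim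
  have := D.simple
  have hrF := Fact.mk hr.prime
  have hvS := D.v_char
  have hout := D.out_char
  have hcard : Nat.card F = 2 := by rw [D.card]; norm_num
  have hc : CharP F 2 := (CharP.charP_iff_prime_eq_zero Nat.prime_two).2 (by exact_mod_cast D.char)
  have hcast : ∀ t : ℕ, t.Prime → t ≠ 2 → (t : F) ≠ 0 := fun t ht ht2 => by
    have := Fact.mk ht
    exact natCast_ne_of_not_dvd Nat.prime_two fun h => ht2 ((Nat.prime_dvd_prime_iff_eq ht Nat.prime_two).1 h)
  refine
    { prime := Nat.prime_two
      good := ⟨hr.prime, hr.two, D.good_first hr.prime hr.two (hr.ne_char D.char) (hr.dvd_first D)⟩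
      cent := fun x hx => (D.cent_p_first hr hx).le
      reg := fun b hb hb2 hbp x hx hbx => ?_
      syl := fun b hb hb2 hbp => ?_
      odd := fun h => absurd rfl h
      inv := fun h => absurd rfl h
      two₀ := fun h => absurd rfl h
      two₁ := fun h => absurd rfl h }
  · have hbF := Fact.mk hb
    obtain ⟨t, y, ht, ht1, hbt, hy, hy1, -, hty⟩ := lift_aut D.good D.na D.aut hb hb2 hr.two
      (fun y hy => hr.irrZ D.card (by omega) y hy) hx hbx
    obtain ⟨-, hd, -⟩ := v_comm_first D.toDat hr.two hr.cast hr.ord hy hy1 hb2 ht ht1 hty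
    rw [hcard] at hd
    have h17 : orderOf b = 17 := (Nat.prime_dvd_prime_iff_eq hb (by norm_num)).1 hd
    have h1 := v_first D.toDat hb2 (hcast _ hb hb2) (by rw [h17, D.card]; exact ordd_17) ht ht1
    have h2 := v_centralizer_mk D.good (hb.odd_of_ne_two hb2) ht 2
    rw [hbt, Fx_conj]
    omega
  · have hbF := Fact.mk hb
    obtain ⟨M, hM⟩ := D.aut b
    rcases inner_or_field D.good hb hb2 (M := M) (by rw [← hM]) with ⟨g, hg⟩ | ⟨σ, c, hMs, hσ⟩
    · obtain ⟨t, ht, ht1, hat⟩ := exists_lift_elt D.good hb2 (a := b) rfl (s := g) (by rw [hM, hg]) D.na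
      have h1 : v 2 (Fx b) + 2 * 1 ≤ v 2 (P Q) := by
        have h2 := H14.PD.v_Fx_inner D.good (p := 2) (f := 1) D.card D.char
          (card_sing D.good le_rfl D.card) (by omega) hb2 (hcast _ hb hb2) ht ht1
        rwa [← hat] at h2
      rw [hvS] at h1 ⊢
      simp only [max_self]
      omega
    · exfalso
      apply hσ
      ext x
      have hFt : Fintype F := Fintype.ofFinite F
      have h2 : Fintype.card F = 2 := by rw [← Nat.card_eq_fintype_card, hcard]
      have h3 : x = 0 ∨ x = 1 := by
        by_contra hcon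
        push Not at hcon
        have h4 : ({0, 1, x} : Finset F).card ≤ Fintype.card F := Finset.card_le_univ _
        rw [h2, Finset.card_insert_of_notMem (by simp [hcon.1.symm]),
          Finset.card_insert_of_notMem (by simp [hcon.2.symm]), Finset.card_singleton] at h4
        omega
      rcases h3 with rfl | rfl
      · rw [map_zero]; rfl
      · rw [map_one]; rfl

/-- **The row, abstract form.** -/
theorem Dat2.row' {p f n : ℕ} [hp : Fact p.Prime] (D : Dat2 Q p f n) : H160.PD.Row (P Q) := by
  have hfinE : Finite ↥(E Q) := finite_E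
  have hn := D.hn
  have hf := D.hf
  have := D.simple
  by_cases h6 : p = 2 ∧ f * (2 * (n - 1)) = 6
  · obtain ⟨rfl, h6⟩ := h6
    have hf1 : f = 1 := by
      have h1 : f * 6 ≤ f * (2 * (n - 1)) := Nat.mul_le_mul_left _ (by omega)
      omega
    subst hf1
    have hn4 : n = 4 := by omega
    subst hn4
    obtain ⟨r, hr⟩ := exists_prm (F := F) (p := 2) (f := 1) (e := 2 * 4) D.card D.char D.hf (by norm_num) (by norm_num)
    exact (D.one hr).row (H160.PD.center_eq_bot D.na)
  · exact D.row h6

end abs

universe u

variable {K : Type u} [Group K] [Finite K] [IsSimpleGroup K]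

/-- **Row of `POmega^-_{2n}(q)`.** -/
theorem row_ominus (h : IsPOmegaMinus K) : H160.PD.Row K := by
  obtain ⟨F, _, _, m, a, b, hm, hab, ⟨e⟩⟩ := h
  have hs : IsSimpleGroup (POmega F (quadFormMinus (m - 1) F a b)) := (e.isSimpleGroup_congr).1 inferInstance
  have hcard := S0294.result (F := F) rfl m hm a b hab
  have hsing := S0290.result (F := F) rfl m (by omega) a b hab
  have hall := all_minus (F := F) (m := m - 1) (by omega) hab
  obtain ⟨p, hchar⟩ := CharP.exists F
  obtain ⟨⟨f, hf0⟩, hp, hF⟩ := FiniteField.card F p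
  simp only [PNat.mk_coe] at hF
  have hpF := Fact.mk hp
  have haut := S0818.result (F := F) p f hf0 hF m hm a b hab
  refine H160.PD.Row.congr e ?_
  revert hs hcard hall hsing haut
  rw [← coe_minusForm]
  intro hs hcard hsing hall haut
  have hG : LieClassical.OrthTrans.Good (minusForm (m - 1) F a b) := good_minus (by omega) hab
  have hsP := isSimple_P hG hs
  have hna := not_comm_P hG
  refine H160.PD.Row.congr (pe hG) ?_
  have hfinE : Finite ↥(E (minusForm (m - 1) F a b)) := finite_E
  have D : Dat2 (minusForm (m - 1) F a b) p f m :=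
    { good := hG
      hf := hf0
      card := by rw [Nat.card_eq_fintype_card, hF]
      hn := hm
      dim := by
        rw [Module.finrank_fintype_fun_eq_card]
        simp
        omega
      sing := by
        rw [hsing, Nat.card_eq_fintype_card]
        obtain ⟨k, rfl⟩ := Nat.exists_eq_add_of_le hm
        have h1 : 1 ≤ Fintype.card F := Fintype.card_pos
        have e1 : 4 + k - 1 = k + 3 := by omega
        have e2 : 2 * (4 + k) - 1 = (4 + k) + (k + 3) := by omega
        rw [e1, e2]
        have h2 : 1 ≤ Fintype.card F ^ (k + 3) := Nat.one_le_pow _ _ h1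
        obtain ⟨z, hz⟩ := Nat.exists_eq_add_of_le h2
        have h3 : Fintype.card F ^ (k + 3) - 1 = z := by omega
        have h4 : Fintype.card F ^ (4 + k + (k + 3)) = Fintype.card F ^ (4 + k) * Fintype.card F ^ (k + 3) := pow_add _ _ _
        rw [h3, h4, hz]
        have h5 : Fintype.card F ^ (4 + k) * (1 + z) + (1 + z) - Fintype.card F ^ (4 + k) =
            Fintype.card F ^ (4 + k) * z + (1 + z) := by
          rw [mul_add, mul_one]
          omega
        rw [h5]
        ring
      char := CharP.cast_eq_zero F p
      ord := by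
        rw [card_P hG, ← hF]
        exact hcard
      out := by
        refine ⟨if p = 2 then 2 else (if Even (m * (p ^ f - 1) / 2) then 4 else 8), ?_, ?_⟩
        · have h1 := out_mul (H160.PD.center_eq_bot hna)
          have h2 : Nat.card (MulAut (P (minusForm (m - 1) F a b))) =
              Nat.card (MulAut (POmega F ⇑(minusForm (m - 1) F a b))) :=
            Nat.card_congr (MulAut.congr (pe hG)).symm.toEquiv
          rw [h2, haut, ← card_P hG] at h1
          exact Nat.eq_of_mul_eq_mul_right Nat.card_pos h1
        · by_cases hp2 : p = 2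
          · left
            rw [if_pos hp2]
          · right
            refine ⟨hp2, ?_⟩
            rw [if_neg hp2]
            split_ifs
            · exact Or.inl rfl
            · exact Or.inr rfl
      aut := exists_gam' hG hall
      simple := hsP
      na := hna }
  exact D.row'

end Cfsg.Agent.H311.PD
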