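import Cfsg.Agent.H311.PD.Sieg
import Cfsg.Agent.H160.PD.Tools

/-!
# S4246, orthogonal rows: the `p`-parts of centralisers (helper311)
-/

set_option autoImplicit false
set_option linter.unusedSectionVars false

namespace Cfsg.Agent.H311.PD

open QuadraticMap Module Subgroup Cfsg.Agent.LieClassical.OrthCore Cfsg.Agent.LieClassical.OrthTrans
open Cfsg.Agent.ClassicalGeometry.OrthSemi Cfsg.Agent.ClassicalGeometry.OrthAut1
open Cfsg.Agent.H200.LinFix Cfsg.Agent.H200.RowOrth
open Cfsg.Agent.H160.PD (v v_mono v_eq_zero v_pos)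

variable {F V : Type*} [Field F] [AddCommGroup V] [Module F V] {Q : QuadraticForm F V} [Finite V]
variable {p : ℕ} [hp : Fact p.Prime]

/-- a scalar of `p`-power order in characteristic `p` -/
theorem scalar_one (hpF : (p : F) = 0) {c : F} {k : ℕ} (h : c ^ p ^ k = 1) : c = 1 := by
  have hchar : CharP F p := (CharP.charP_iff_prime_eq_zero hp.out).2 hpF
  have h1 : (c - 1) ^ p ^ k = 0 := by rw [sub_pow_char_pow, h, one_pow, sub_self]
  exact sub_eq_zero.1 (pow_eq_zero_iff (pow_ne_zero k hp.out.ne_zero) |>.1 h1)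

theorem pow_apply_smul {g : V ≃ₗ[F] V} {u : V} {c : F} (h : g u = c • u) (k : ℕ) : (g ^ k) u = c ^ k • u := by
  induction k with
  | zero => rw [pow_zero, pow_zero, one_smul]; rfl
  | succ k ih =>
    rw [pow_succ', pow_succ]
    change g ((g ^ k) u) = _
    rw [ih, map_smul, h, smul_smul]

/-- the `p`-part of a centraliser: a `p`-subgroup -/
theorem exists_psub {G : Type*} [Group G] [Finite G] (H : Subgroup G) :
    ∃ R : Subgroup G, R ≤ H ∧ IsPGroup p R ∧ v p R = v p H := by
  obtain ⟨P⟩ : Nonempty (Sylow p ↥H) := inferInstance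
  refine ⟨(P : Subgroup ↥H).map H.subtype, map_subtype_le _, P.isPGroup'.map _, ?_⟩
  have h1 : Nat.card ((P : Subgroup ↥H).map H.subtype) = Nat.card (P : Subgroup ↥H) :=
    (Nat.card_congr ((P : Subgroup ↥H).equivMapOfInjective _ H.subtype_injective).toEquiv).symm
  simp only [v]
  rw [h1, P.card_eq_multiplicity, hp.out.factorization_pow, Finsupp.single_eq_same]

theorem self_mem_prp {u : V} (hu : Q u = 0) : u ∈ prp Q u := by rw [mem_prp, polar_self_of_sing hu]

/-- the case of a moved line -/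
theorem v_inf_moved (hG : Good Q) {f : ℕ} (hF : Nat.card F = p ^ f) {u : V} (hu : Q u = 0) (h0 : u ≠ 0)
    {R : Subgroup ↥(E Q)} {t : ↥(E Q)} (hR : R ≤ centralizer {t})
    (htu : (t : V ≃ₗ[F] V) u ∉ Submodule.span F {u}) : v p ↥(R ⊓ X Q u hu) ≤ f := by
  have hfinE : Finite ↥(E Q) := finite_E
  have hfd : FiniteDimensional F V := inferInstance
  set W : Submodule F V := Submodule.span F {u, (t : V ≃ₗ[F] V) u} ⊓ prp Q u with hWdef
  have hW : W ≤ prp Q u := inf_le_right
  have huW : u ∈ W := ⟨Submodule.subset_span (by simp), self_mem_prp hu⟩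
  have h1 : R ⊓ X Q u hu ≤ XW Q u hu W hW := by
    rintro g ⟨hgR, w, hw, hg⟩
    rw [mem_XW]
    refine ⟨w, ⟨?_, mem_prp.2 hw⟩, hw, hg⟩
    refine mem_span_of_comm hG.nondeg (E_le_O t.2) hu h0 hw ?_ htu
    have h2 : g * t = t * g := mem_centralizer_singleton_iff.1 (hR hgR)
    rw [← hg]
    exact (congrArg Subtype.val h2).symm
  have h2 := v_XW hG hF hu h0 hW huW
  have h3 : finrank F W ≤ 2 := by
    refine (Submodule.finrank_mono inf_le_left).trans ?_
    rw [Submodule.span_insert]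
    refine (Submodule.finrank_add_le_finrank_add_finrank _ _).trans ?_
    have h4 := finrank_span_singleton (K := F) h0
    have h5 := finrank_span_singleton (K := F) (v := (t : V ≃ₗ[F] V) u) (fun h => h0 (LinearEquiv.map_eq_zero_iff _ |>.1 h))
    omega
  have h4 := v_mono h1 p
  have h5 : f * finrank F W ≤ f * 2 := Nat.mul_le_mul_left _ h3
  simp only [v] at *
  omega

/-- the case of a fixed vector -/
theorem v_inf_fixed (hG : Good Q) {f : ℕ} (hF : Nat.card F = p ^ f) {u : V} (hu : Q u = 0) (h0 : u ≠ 0)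
    {R : Subgroup ↥(E Q)} {t : ↥(E Q)} (hR : R ≤ centralizer {t}) {s : ℕ} (ht : t ^ s = 1) (hs : (s : F) ≠ 0)
    (htu : (t : V ≃ₗ[F] V) u = u) : v p ↥(R ⊓ X Q u hu) + f ≤ f * finrank F ↥(K (en Q t) ⊓ prp Q u) := by
  have hfinE : Finite ↥(E Q) := finite_E
  have hfd : FiniteDimensional F V := inferInstance
  set W : Submodule F V := K (en Q t) ⊓ prp Q u with hWdef
  have hW : W ≤ prp Q u := inf_le_right
  have huK : u ∈ K (en Q t) := mem_K.2 htu
  have huW : u ∈ W := ⟨huK, self_mem_prp hu⟩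
  have ht' : en Q t ^ s = 1 := by rw [← map_pow, ht, map_one]
  have h1 : R ⊓ X Q u hu ≤ XW Q u hu W hW := by
    rintro g ⟨hgR, w, hw, hg⟩
    rw [mem_XW]
    refine ⟨w, ⟨?_, mem_prp.2 hw⟩, hw, hg⟩
    have h2 : g * t = t * g := mem_centralizer_singleton_iff.1 (hR hgR)
    have h3 : (t : V ≃ₗ[F] V) w - w ∈ Submodule.span F {u} := by
      refine sub_mem_span_of_comm hG.nondeg (E_le_O t.2) hu h0 hw ?_ htu
      rw [← hg]
      exact (congrArg Subtype.val h2).symm
    have h4 : (t : V ≃ₗ[F] V) w - w ∈ K (en Q t) := by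
      have h5 : Submodule.span F {u} ≤ K (en Q t) := by
        rw [Submodule.span_singleton_le_iff_mem]; exact huK
      exact h5 h3
    have h5 : (t : V ≃ₗ[F] V) w - w = 0 := eq_zero_of_mem ht' hs (mem_K.1 h4) (sub_mem_R (en Q t) w)
    exact mem_K.2 (sub_eq_zero.1 h5)
  have h2 := v_XW hG hF hu h0 hW huW
  have h4 := v_mono h1 p
  simp only [v] at *
  omega

/-- an eigenvalue of an element of prime order -/
theorem dvd_of_eigen {s : ℕ} [hs : Fact s.Prime] [Finite F] {t : V ≃ₗ[F] V} (ht : t ^ s = 1) {u : V} (h0 : u ≠ 0)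
    {c : F} (h : t u = c • u) (hc : c ≠ 1) : s ∣ Nat.card F - 1 := by
  have hft : Fintype F := Fintype.ofFinite F
  have h1 := pow_apply_smul h s
  rw [ht] at h1
  have h2 : (c ^ s - 1) • u = 0 := by rw [sub_smul, ← h1, one_smul]; exact sub_self _
  have h3 : c ^ s = 1 := by
    rcases smul_eq_zero.1 h2 with h3 | h3
    · exact sub_eq_zero.1 h3
    · exact absurd h3 h0
  have h4 : c ≠ 0 := by
    rintro rfl
    rw [zero_pow hs.out.ne_zero] at h3
    exact zero_ne_one h3
  have h5 : orderOf c = s := orderOf_eq_prime h3 hc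
  rw [← h5]
  apply orderOf_dvd_of_pow_eq_one
  rw [Nat.card_eq_fintype_card]
  exact FiniteField.pow_card_sub_one_eq_one c h4

/-- **The `p`-part of a centraliser, first form**: no eigenvectors but the fixed ones, the fixed space is small. -/
theorem v_cent (hG : Good Q) {f : ℕ} (hf : 1 ≤ f) (hF : Nat.card F = p ^ f) {s : ℕ} [hs : Fact s.Prime]
    (hsF : (s : F) ≠ 0) {t : ↥(E Q)} (ht : t ^ s = 1) (hsq : ¬ s ∣ Nat.card F - 1)
    (hK : ∀ u ∈ K (en Q t), Q u = 0 → u ≠ 0 → ∀ w ∈ K (en Q t), polar Q u w = 0 → w ∈ Submodule.span F {u}) :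
    v p (centralizer ({t} : Set ↥(E Q))) + f * (finrank F V - 2) ≤ v p ↥(E Q) + f := by
  have hfinE : Finite ↥(E Q) := finite_E
  have hfinF : Finite F := finite_F hG
  have hfd : FiniteDimensional F V := inferInstance
  obtain ⟨R, hRt, hRp, hRv⟩ := exists_psub (p := p) (centralizer ({t} : Set ↥(E Q)))
  obtain ⟨u, h0, hu, hfix⟩ := exists_sing_fixed hG hf hF hRp
  have h1 := index_lemma (p := p) hu hfix
  rw [v_X hG hF hu h0] at h1
  have h2 : v p ↥(R ⊓ X Q u hu) ≤ f := by
    by_cases htu : (t : V ≃ₗ[F] V) u ∈ Submodule.span F {u}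
    · rw [Submodule.mem_span_singleton] at htu
      obtain ⟨c, hc⟩ := htu
      by_cases hc1 : c = 1
      · rw [hc1, one_smul] at hc
        have h3 := v_inf_fixed hG hF hu h0 hRt ht hsF hc.symm
        have h4 : finrank F ↥(K (en Q t) ⊓ prp Q u) ≤ 1 := by
          have h5 : K (en Q t) ⊓ prp Q u ≤ Submodule.span F {u} := by
            rintro w ⟨hw, hw'⟩
            exact hK u (mem_K.2 hc.symm) hu h0 w hw (mem_prp.1 hw')
          have h6 := Submodule.finrank_mono h5
          rwa [finrank_span_singleton h0] at h6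
        have h5 : f * finrank F ↥(K (en Q t) ⊓ prp Q u) ≤ f * 1 := Nat.mul_le_mul_left _ h4
        omega
      · exfalso
        apply hsq
        refine dvd_of_eigen (t := (t : V ≃ₗ[F] V)) ?_ h0 hc.symm hc1
        exact congrArg Subtype.val ht
    · exact v_inf_moved hG hF hu h0 hRt htu
  rw [← hRv]
  omega

/-! ### hyperbolic planes -/

/-- a nondegenerate plane with a singular vector -/
theorem exists_pair [FiniteDimensional F V] {U : Submodule F V} (hU : finrank F U = 2)
    (hnd : ∀ v ∈ U, (∀ u ∈ U, polarBilin Q u v = 0) → v = 0) {e : V} (he : e ∈ U) (he0 : e ≠ 0) (hQe : Q e = 0) :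
    ∃ e' ∈ U, polar Q e e' = 1 ∧ Q e' = 0 ∧ e' ≠ 0 ∧ ∀ x ∈ U, x = polar Q e' x • e + polar Q e x • e' := by
  classical
  obtain ⟨w, hw, hvw, hQw⟩ : ∃ w ∈ U, polar Q e w = 1 ∧ Q w = 0 := by
    by_contra hcon
    push Not at hcon
    apply he0
    apply hnd e he
    intro u hu
    by_contra hne
    rw [polarBilin_apply_apply, polar_comm] at hne
    obtain ⟨w₁, hw₁, h1⟩ : ∃ w₁ ∈ U, polar Q e w₁ = 1 :=
      ⟨(polar Q e u)⁻¹ • u, U.smul_mem _ hu, by rw [polar_smul_right, smul_eq_mul, inv_mul_cancel₀ hne]⟩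
    refine hcon (w₁ - Q w₁ • e) (U.sub_mem hw₁ (U.smul_mem _ he)) ?_ ?_
    · rw [polar_sub_right, polar_smul_right, h1, polar_self_of_sing hQe, smul_zero, sub_zero]
    · rw [sub_eq_add_neg, Q_add, ← neg_smul, QuadraticMap.map_smul, hQe, polar_smul_right, polar_comm, h1]
      simp
  have hw0 : w ≠ 0 := by
    rintro rfl
    rw [polar_zero_right] at hvw
    exact zero_ne_one hvw
  refine ⟨w, hw, hvw, hQw, hw0, fun x hx => ?_⟩
  have hlin : ∀ a b : F, a • e + b • w = 0 → a = 0 ∧ b = 0 := by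
    intro a b h
    have h1 : polar Q e (a • e + b • w) = b := by
      rw [polar_add_right, polar_smul_right, polar_smul_right, hvw, polar_self_of_sing hQe]; simp
    have h2 : polar Q w (a • e + b • w) = a := by
      rw [polar_add_right, polar_smul_right, polar_smul_right, polar_self_of_sing hQw, polar_comm, hvw]; simp
    rw [h, polar_zero_right] at h1 h2
    exact ⟨h2.symm, h1.symm⟩
  let φ : (F × F) →ₗ[F] U :=
    { toFun := fun c => ⟨c.1 • e + c.2 • w, U.add_mem (U.smul_mem _ he) (U.smul_mem _ hw)⟩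
      map_add' := fun c d => Subtype.ext (by
        change (c.1 + d.1) • e + (c.2 + d.2) • w = (c.1 • e + c.2 • w) + (d.1 • e + d.2 • w)
        rw [add_smul, add_smul]; abel)
      map_smul' := fun a c => Subtype.ext (by
        change (a * c.1) • e + (a * c.2) • w = a • (c.1 • e + c.2 • w)
        rw [mul_smul, mul_smul, smul_add]) }
  have hφi : Function.Injective φ := by
    rw [← LinearMap.ker_eq_bot, LinearMap.ker_eq_bot']
    intro c hc
    obtain ⟨h1, h2⟩ := hlin c.1 c.2 (congrArg Subtype.val hc)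
    exact Prod.ext h1 h2
  have hφs : Function.Surjective φ := by
    rw [← LinearMap.range_eq_top]
    apply Submodule.eq_top_of_finrank_eq
    rw [LinearMap.finrank_range_of_inj hφi, hU]
    simp
  obtain ⟨c, hc⟩ := hφs ⟨x, hx⟩
  have h1 : c.1 • e + c.2 • w = x := congrArg Subtype.val hc
  have h2 : polar Q e x = c.2 := by
    rw [← h1, polar_add_right, polar_smul_right, polar_smul_right, hvw, polar_self_of_sing hQe]; simp
  have h3 : polar Q w x = c.1 := by
    rw [← h1, polar_add_right, polar_smul_right, polar_smul_right, polar_self_of_sing hQw, polar_comm, hvw]; simp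
  rw [h2, h3, h1]

/-- the singular vectors of a hyperbolic plane -/
theorem sing_cases {U : Submodule F V} {e e' : V} (hQe : Q e = 0) (hQe' : Q e' = 0) (hee : polar Q e e' = 1)
    (hx : ∀ x ∈ U, x = polar Q e' x • e + polar Q e x • e') {x : V} (hxU : x ∈ U) (hQx : Q x = 0) :
    (∃ c : F, x = c • e) ∨ ∃ c : F, x = c • e' := by
  have h1 := hx x hxU
  have h2 : Q x = polar Q e' x * polar Q e x := by
    conv_lhs => rw [h1]
    rw [Q_add, QuadraticMap.map_smul, QuadraticMap.map_smul, hQe, hQe', polar_smul_left, polar_smul_right, hee]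
    simp
  rw [hQx] at h2
  rcases mul_eq_zero.1 h2.symm with h3 | h3
  · right
    rw [h3, zero_smul, zero_add] at h1
    exact ⟨_, h1⟩
  · left
    rw [h3, zero_smul, add_zero] at h1
    exact ⟨_, h1⟩

/-- elements of `p`-groups fixing a line fix its vectors -/
theorem fix_of_line (hpF : (p : F) = 0) {R : Subgroup ↥(E Q)} (hR : IsPGroup p R) {g : ↥(E Q)} (hg : g ∈ R)
    {u : V} (h0 : u ≠ 0) {c : F} (h : (g : V ≃ₗ[F] V) u = c • u) : (g : V ≃ₗ[F] V) u = u := by
  obtain ⟨k, hk⟩ := hR ⟨g, hg⟩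
  have h1 : g ^ p ^ k = 1 := congrArg Subtype.val hk
  have h2 := pow_apply_smul h (p ^ k)
  have h3 : (g : V ≃ₗ[F] V) ^ p ^ k = 1 := congrArg Subtype.val h1
  rw [h3] at h2
  have h4 : (c ^ p ^ k - 1) • u = 0 := by rw [sub_smul, ← h2, one_smul]; exact sub_self _
  have h5 : c ^ p ^ k = 1 := by
    rcases smul_eq_zero.1 h4 with h5 | h5
    · exact sub_eq_zero.1 h5
    · exact absurd h5 h0
  rw [h, scalar_one hpF h5, one_smul]

/-- **The `p`-part of a centraliser, second form**: an invariant hyperbolic plane. -/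
theorem v_plane (hG : Good Q) {f : ℕ} (hf : 1 ≤ f) (hF : Nat.card F = p ^ f) {H : Subgroup ↥(E Q)} {U : Submodule F V}
    (hU : finrank F U = 2) (hnd : ∀ v ∈ U, (∀ u ∈ U, polarBilin Q u v = 0) → v = 0) {e : V} (he : e ∈ U)
    (he0 : e ≠ 0) (hQe : Q e = 0) (hinv : ∀ g ∈ H, ∀ x ∈ U, (g : V ≃ₗ[F] V) x ∈ U) :
    v p H + f * (finrank F V - 2) ≤ v p ↥(E Q) + 1 := by
  classical
  have hfinE : Finite ↥(E Q) := finite_E
  have hfinF : Finite F := finite_F hG
  have hfd : FiniteDimensional F V := inferInstance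
  have hpF : (p : F) = 0 := by
    have h1 : p ∣ Nat.card F := by rw [hF]; exact dvd_pow_self _ (by omega)
    have hft : Fintype F := Fintype.ofFinite F
    have h2 : (Fintype.card F : F) = 0 := FiniteField.cast_card_eq_zero F
    rw [← Nat.card_eq_fintype_card, hF, Nat.cast_pow] at h2
    exact pow_eq_zero_iff (by omega) |>.1 h2
  obtain ⟨e', he', hee, hQe', he0', hx⟩ := exists_pair hU hnd he he0 hQe
  obtain ⟨R, hRt, hRp, hRv⟩ := exists_psub (p := p) H
  -- the stabiliser of `e`
  let R' : Subgroup ↥(E Q) :=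
    { carrier := {g | g ∈ R ∧ (g : V ≃ₗ[F] V) e = e}
      mul_mem' := fun {a b} ha hb => ⟨mul_mem ha.1 hb.1, by
        change (a : V ≃ₗ[F] V) ((b : V ≃ₗ[F] V) e) = e
        rw [hb.2, ha.2]⟩
      one_mem' := ⟨one_mem _, rfl⟩
      inv_mem' := fun {a} ha => ⟨inv_mem ha.1, by
        change (a : V ≃ₗ[F] V).symm e = e
        rw [LinearEquiv.symm_apply_eq, ha.2]⟩ }
  have hR'R : R' ≤ R := fun g hg => hg.1
  have hR'p : IsPGroup p R' := hRp.to_le hR'R
  -- the index
  have hline : ∀ g ∈ R, ∀ c : F, (g : V ≃ₗ[F] V) e = c • e → (g : V ≃ₗ[F] V) e = e := fun g hg c h =>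
    fix_of_line hpF hRp hg he0 h
  have hcase : ∀ g ∈ R, (g : V ≃ₗ[F] V) e = e ∨ ∃ c : F, (g : V ≃ₗ[F] V) e = c • e' := by
    intro g hg
    rcases sing_cases hQe hQe' hee hx (hinv g (hRt hg) e he) (by rw [E_le_O g.2]; exact hQe) with ⟨c, hc⟩ | h
    · exact Or.inl (hline g hg c hc)
    · exact Or.inr h
  have hidx : (R'.subgroupOf R).index ≤ 2 := by
    rw [Subgroup.index]
    have h1 : Nat.card (↥R ⧸ R'.subgroupOf R) ≤ Nat.card Prop := by
      refine Nat.card_le_card_of_injective (fun a : ↥R ⧸ R'.subgroupOf R => Quotient.liftOn' a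
        (fun g : ↥R => ((g : ↥(E Q)) : V ≃ₗ[F] V) e = e) ?_) ?_
      · intro g h hgh
        rw [QuotientGroup.leftRel_apply] at hgh
        have h2 : ((g : ↥(E Q))⁻¹ * (h : ↥(E Q))) ∈ R' := hgh
        have h3 : (g : ↥(E Q)).1.symm (((h : ↥(E Q)) : V ≃ₗ[F] V) e) = e := h2.2
        rw [LinearEquiv.symm_apply_eq] at h3
        simp only [h3]
      · intro a b
        induction a using Quotient.inductionOn' with | _ g => ?_
        induction b using Quotient.inductionOn' with | _ h => ?_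
        intro hgh
        have h2 : (((g : ↥(E Q)) : V ≃ₗ[F] V) e = e) = (((h : ↥(E Q)) : V ≃ₗ[F] V) e = e) := hgh
        apply Quotient.sound'
        rw [QuotientGroup.leftRel_apply]
        refine ⟨(g⁻¹ * h : ↥R).2, ?_⟩
        by_cases h3 : ((g : ↥(E Q)) : V ≃ₗ[F] V) e = e
        · have h4 : ((h : ↥(E Q)) : V ≃ₗ[F] V) e = e := h2 ▸ h3
          change (g : ↥(E Q)).1.symm (((h : ↥(E Q)) : V ≃ₗ[F] V) e) = e
          rw [h4, LinearEquiv.symm_apply_eq, h3]
        · have h4 : ¬ ((h : ↥(E Q)) : V ≃ₗ[F] V) e = e := fun h5 => h3 (by rw [h2]; exact h5)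
          obtain ⟨c, hc⟩ := (hcase g g.2).resolve_left h3
          obtain ⟨d, hd⟩ := (hcase h h.2).resolve_left h4
          have hc0 : c ≠ 0 := by
            rintro rfl
            rw [zero_smul] at hc
            exact he0 (LinearEquiv.map_eq_zero_iff _ |>.1 hc)
          refine hline _ (g⁻¹ * h : ↥R).2 (c⁻¹ * d) ?_
          change (g : ↥(E Q)).1.symm (((h : ↥(E Q)) : V ≃ₗ[F] V) e) = _
          rw [hd, LinearEquiv.symm_apply_eq, map_smul, hc, smul_smul]
          congr 1
          field_simp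
    have h2 : Nat.card Prop = 2 := by
      rw [Nat.card_eq_fintype_card, Fintype.card_prop]
    omega
  have hv1 : v p R ≤ v p R' + 1 := by
    have h1 := Subgroup.card_mul_index (R'.subgroupOf R)
    have h2 : Nat.card (R'.subgroupOf R) = Nat.card R' := Nat.card_congr (Subgroup.subgroupOfEquivOfLe hR'R).toEquiv
    have h3 : 0 < (R'.subgroupOf R).index := Nat.pos_of_ne_zero Subgroup.index_ne_zero_of_finite
    have h4 : (R'.subgroupOf R).index.factorization p ≤ 1 := by
      by_contra h5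
      push Not at h5
      have h6 : p ^ 2 ∣ _ := (hp.out.pow_dvd_iff_le_factorization h3.ne').2 h5
      have h7 := Nat.le_of_dvd h3 h6
      have h8 : 2 * 2 ≤ p ^ 2 := by rw [pow_two]; exact Nat.mul_le_mul hp.out.two_le hp.out.two_le
      omega
    rw [h2] at h1
    simp only [v]
    rw [← h1, Nat.factorization_mul Nat.card_pos.ne' h3.ne', Finsupp.add_apply]
    omega
  -- the Siegel group of `e`
  have h1 := index_lemma (p := p) hQe (R := R') (fun g hg => hg.2)
  rw [v_X hG hF hQe he0] at h1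
  have h2 : R' ⊓ X Q e hQe = ⊥ := by
    rw [eq_bot_iff]
    rintro g ⟨hg, w, hw, hgw⟩
    rw [mem_bot]
    have h3 := hinv g (hRt (hR'R hg)) e' he'
    rw [hgw, siegel_apply, hee, one_smul, mul_one] at h3
    have h4 : w ∈ U := by
      have h5 : w = (e' + w - polar Q w e' • e - Q w • e) - e' + (polar Q w e' • e + Q w • e) := by abel
      rw [h5]
      exact U.add_mem (U.sub_mem h3 he') (U.add_mem (U.smul_mem _ he) (U.smul_mem _ he))
    have h5 := hx w h4
    rw [hw, zero_smul, add_zero] at h5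
    apply Subtype.ext
    rw [hgw]
    have h6 : siegel Q e w hQe hw = siegel Q e 0 hQe (polar_zero_right _ _) := by
      rw [siegel_eq_iff hG.nondeg hQe he0, sub_zero, Submodule.mem_span_singleton]
      exact ⟨_, h5.symm⟩
    rw [h6]
    ext x
    rw [siegel_apply, polar_zero_left, QuadraticMap.map_zero]
    simp
  rw [h2] at h1
  have h3 : v p ↥(⊥ : Subgroup ↥(E Q)) = 0 := by simp [v]
  rw [← hRv]
  omega

end Cfsg.Agent.H311.PD
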