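import Cfsg.Agent.H311.PD.Norm

/-!
# S4246, row `POmega^-_{2n}(q)`, abstract form (helper311)
-/

set_option autoImplicit false
set_option linter.unusedSectionVars false

namespace Cfsg.Agent.H311.PD

open QuadraticMap Module Subgroup Cfsg.Agent.LieClassical.OrthCore Cfsg.Agent.LieClassical.OrthTrans
open Cfsg.Agent.ClassicalGeometry.OrthSemi Cfsg.Agent.ClassicalGeometry.OrthAut1
open Cfsg.Agent.H200.LinFix Cfsg.Agent.H200.RowOrth
open Cfsg.Agent.H160.PD (v v_mono v_eq_zero v_pos Fx mem_Fx out Good Two One NoOdd Inc)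

variable {F V : Type*} [Field F] [AddCommGroup V] [Module F V] {Q : QuadraticForm F V} [Finite V]

/-- A nonzero singular vector in `K y`, minus type. -/
theorem sing_K_minus {n : ℕ} (hn : 3 ≤ n)
    (hsing : Nat.card {v : V // Q v = 0} = (Nat.card F ^ n + 1) * (Nat.card F ^ (n - 1) - 1) + 1)
    {l : ℕ} [hl : Fact l.Prime] (hd : Ordd l (Nat.card F) (2 * (n - 1)))
    {y : ↥(E Q)} (hy : y ^ l = 1) : ∃ v ∈ K (en Q y), v ≠ 0 ∧ Q v = 0 := by
  by_contra hcon
  push Not at hcon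
  have h2 := card_sing_modEq (Q := Q) hy
  have h3 : Nat.card {v : V // v ∈ K (en Q y) ∧ Q v = 0} = 1 := by
    rw [Nat.card_eq_one_iff_unique]
    refine ⟨⟨fun a b => Subtype.ext ?_⟩, ⟨⟨0, Submodule.zero_mem _, QuadraticMap.map_zero _⟩⟩⟩
    have h4 : ∀ a : {v : V // v ∈ K (en Q y) ∧ Q v = 0}, (a : V) = 0 := fun a => by
      by_contra h
      exact hcon a a.2.1 h a.2.2
    rw [h4 a, h4 b]
  rw [h3, hsing] at h2
  have h4 : l ∣ (Nat.card F ^ n + 1) * (Nat.card F ^ (n - 1) - 1) + 1 - 1 :=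
    (Nat.modEq_iff_dvd' (by omega)).1 h2.symm
  rw [Nat.add_sub_cancel, hl.out.dvd_mul] at h4
  rcases h4 with h4 | h4
  · have h5 : l ∣ Nat.card F ^ (2 * n) - 1 := by
      have h6 : Nat.card F ^ (2 * n) - 1 = (Nat.card F ^ n + 1) * (Nat.card F ^ n - 1) := by
        rw [mul_comm 2 n, pow_mul]
        exact Nat.sq_sub_sq (Nat.card F ^ n) 1
      rw [h6]
      exact Dvd.dvd.mul_right h4 _
    have h6 := Nat.dvd_of_mul_dvd_mul_left (by norm_num) (hd _ h5)
    have h7 : n - 1 ∣ 1 := by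
      have h8 : n = (n - 1) + 1 := by omega
      rw [h8] at h6
      rw [Nat.add_sub_cancel] at h6
      exact (Nat.dvd_add_right dvd_rfl).1 h6
    have := Nat.le_of_dvd one_pos h7
    omega
  · have h5 := Nat.le_of_dvd (by omega) (hd _ h4)
    omega

/-! ### the two tori -/

section tori

variable [Finite F] {p f n : ℕ} [hp : Fact p.Prime]

/-- the data of the minus type -/
structure Dat (Q : QuadraticForm F V) (p f n : ℕ) : Prop where
  good : LieClassical.OrthTrans.Good Q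
  hf : 1 ≤ f
  card : Nat.card F = p ^ f
  hn : 4 ≤ n
  dim : finrank F V = 2 * n
  sing : Nat.card {v : V // Q v = 0} = (Nat.card F ^ n + 1) * (Nat.card F ^ (n - 1) - 1) + 1
  char : (p : F) = 0

/-- **Elements of type `2n`.** -/
theorem cent_first (D : Dat Q p f n) {l : ℕ} [hl : Fact l.Prime] (hl2 : l ≠ 2) (hlF : (l : F) ≠ 0)
    (hd : Ordd l (Nat.card F) (2 * n)) {y : ↥(E Q)} (hy : y ^ l = 1) (hy1 : y ≠ 1) :
    Irr (en Q y) (R (en Q y)) ∧ finrank F (R (en Q y)) = 2 * n ∧ K (en Q y) = ⊥ ∧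
      Nat.card (centralizer ({y} : Set ↥(E Q))) ∣ Nat.card F ^ n + 1 := by
  have hfd : FiniteDimensional F V := inferInstance
  have hV := D.dim
  have hn := D.hn
  have hVe : finrank F V < 2 * (2 * n) := by omega
  have h1 := irr_R hd hlF hVe hy
  have h2 := finrank_R_eq hd hlF hVe hy hy1
  refine ⟨h1, h2, ?_, card_cent_irr D.good hl2 hlF hy hy1 h1 h2 hV⟩
  have h3 := finrank_add (en Q y)
  exact Submodule.finrank_eq_zero.1 (by omega)

/-- **Elements of type `2n - 2`.** -/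
theorem cent_second (D : Dat Q p f n) {l : ℕ} [hl : Fact l.Prime] (hl2 : l ≠ 2) (hlF : (l : F) ≠ 0)
    (hd : Ordd l (Nat.card F) (2 * (n - 1))) {y : ↥(E Q)} (hy : y ^ l = 1) (hy1 : y ≠ 1) :
    Irr (en Q y) (R (en Q y)) ∧ finrank F (R (en Q y)) = 2 * (n - 1) ∧ finrank F (K (en Q y)) = 2 ∧
      (∃ e ∈ K (en Q y), e ≠ 0 ∧ Q e = 0) ∧
      Nat.card (centralizer ({y} : Set ↥(E Q))) ∣ (Nat.card F ^ (n - 1) + 1) * (2 * (Nat.card F - 1)) := by
  have hfd : FiniteDimensional F V := inferInstance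
  have hV := D.dim
  have hn := D.hn
  have hVe : finrank F V < 2 * (2 * (n - 1)) := by omega
  have h1 := irr_R hd hlF hVe hy
  have h2 := finrank_R_eq hd hlF hVe hy hy1
  have h3 := finrank_add (en Q y)
  have h4 : finrank F (K (en Q y)) = 2 := by omega
  obtain ⟨e, he, he0, hQe⟩ := sing_K_minus (Q := Q) (by omega) D.sing hd hy
  exact ⟨h1, h2, h4, ⟨e, he, he0, hQe⟩, card_cent_plane D.good hl2 hlF hy hy1 h1 h2 h4 he he0 hQe⟩

theorem v_first (D : Dat Q p f n) {l : ℕ} [hl : Fact l.Prime] (hl2 : l ≠ 2) (hlF : (l : F) ≠ 0)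
    (hd : Ordd l (Nat.card F) (2 * n)) {y : ↥(E Q)} (hy : y ^ l = 1) (hy1 : y ≠ 1) :
    v p (centralizer ({y} : Set ↥(E Q))) = 0 := by
  have hfinE : Finite ↥(E Q) := finite_E
  apply v_eq_zero
  intro h
  have h1 := h.trans (cent_first D hl2 hlF hd hy hy1).2.2.2
  rw [D.card] at h1
  have := D.hn
  exact not_dvd_pow_add_one hp.out D.hf (by omega) h1

theorem v_second (D : Dat Q p f n) {l : ℕ} [hl : Fact l.Prime] (hl2 : l ≠ 2) (hlF : (l : F) ≠ 0)
    (hd : Ordd l (Nat.card F) (2 * (n - 1))) {y : ↥(E Q)} (hy : y ^ l = 1) (hy1 : y ≠ 1) :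
    v p (centralizer ({y} : Set ↥(E Q))) ≤ 1 := by
  have hfinE : Finite ↥(E Q) := finite_E
  have h1 := (cent_second D hl2 hlF hd hy hy1).2.2.2.2
  have hn := D.hn
  have hq : 1 < Nat.card F := Finite.one_lt_card
  rw [D.card] at h1
  refine (fac_mono (t := p) ?_ h1).trans (fac_plane hp.out D.hf (by omega))
  rw [← D.card]
  exact mul_ne_zero (Nat.succ_ne_zero _) (by omega)

/-- **The centralisers of the elements of odd prime order commuting with an element of type `2n`.** -/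
theorem v_comm_first (D : Dat Q p f n) {l : ℕ} [hl : Fact l.Prime] (hl2 : l ≠ 2) (hlF : (l : F) ≠ 0)
    (hd : Ordd l (Nat.card F) (2 * n)) {y : ↥(E Q)} (hy : y ^ l = 1) (hy1 : y ≠ 1) {s : ℕ} [hs : Fact s.Prime]
    (hs2 : s ≠ 2) {t : ↥(E Q)} (ht : t ^ s = 1) (ht1 : t ≠ 1) (hty : t * y = y * t) :
    K (en Q t) = ⊥ ∧ s ∣ Nat.card F ^ n + 1 ∧ ¬ s ∣ Nat.card F - 1 := by
  have hfd : FiniteDimensional F V := inferInstance
  have hV := D.dim
  have ht' : en Q t ≠ 1 := fun h => ht1 (en_injective (h.trans (map_one _).symm))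
  obtain ⟨hirr, hdim, hK, -⟩ := cent_first D hl2 hlF hd hy hy1
  rcases comm_elt D.good hl2 hlF hy hirr ht hty with h | ⟨h, m, hm, hpm⟩
  · exfalso
    apply ht'
    rw [← R_eq_bot, eq_bot_iff]
    refine (R_le_K hlF hy hty h).trans ?_
    rw [hK]
  · rw [hdim] at hm
    have hmn : m = n := by omega
    subst hmn
    have h1 := Submodule.finrank_mono h
    have h2 := finrank_add (en Q t)
    refine ⟨Submodule.finrank_eq_zero.1 (by omega), hpm, fun h3 => ?_⟩
    have h4 : s ∣ Nat.card F ^ m - 1 := by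
      have h5 := Nat.sub_dvd_pow_sub_pow (Nat.card F) 1 m
      rw [one_pow] at h5
      exact h3.trans h5
    have h5 := Nat.dvd_sub hpm h4
    have h6 : 1 ≤ Nat.card F ^ m := Nat.one_le_pow _ _ Nat.card_pos
    have h7 : Nat.card F ^ m + 1 - (Nat.card F ^ m - 1) = 2 := by omega
    rw [h7] at h5
    exact hs2 ((Nat.prime_dvd_prime_iff_eq hs.out Nat.prime_two).1 h5)

/-- **The centralisers of the elements of odd prime order commuting with an element of type `2n - 2`.** -/
theorem v_comm_second (D : Dat Q p f n) {l : ℕ} [hl : Fact l.Prime] (hl2 : l ≠ 2) (hlF : (l : F) ≠ 0)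
    (hd : Ordd l (Nat.card F) (2 * (n - 1))) {y : ↥(E Q)} (hy : y ^ l = 1) (hy1 : y ≠ 1) {s : ℕ} [hs : Fact s.Prime]
    (hs2 : s ≠ 2) (hsF : (s : F) ≠ 0) {t : ↥(E Q)} (ht : t ^ s = 1) (ht1 : t ≠ 1) (hty : t * y = y * t) :
    v p (centralizer ({t} : Set ↥(E Q))) + f * (finrank F V - 2) ≤ v p ↥(E Q) + f := by
  have hfd : FiniteDimensional F V := inferInstance
  have hV := D.dim
  have hn := D.hn
  have hf := D.hf
  have hG := D.good
  have hy' : en Q y ^ l = 1 := by rw [← map_pow, hy, map_one]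
  have ht'' : en Q t ^ s = 1 := by rw [← map_pow, ht, map_one]
  have ht' : en Q t ≠ 1 := fun h => ht1 (en_injective (h.trans (map_one _).symm))
  obtain ⟨hirr, hdim, hK, ⟨e, he, he0, hQe⟩, -⟩ := cent_second D hl2 hlF hd hy hy1
  have hnd : ∀ v ∈ K (en Q y), (∀ u ∈ K (en Q y), polarBilin Q u v = 0) → v = 0 := fun w hw h =>
    nondeg_K (isom_en y) (polar_nondeg hG) hy' hlF hw h
  rcases comm_elt D.good hl2 hlF hy hirr ht hty with h | ⟨h, m, hm, hpm⟩
  · -- `t` is trivial on `R y`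
    have h1 := R_le_K hlF hy hty h
    have h2 := Submodule.finrank_mono h1
    have h3 := finrank_R_ne_one hG hs2 hsF ht
    have h4 : finrank F (R (en Q t)) ≠ 0 := fun h => ht' (R_eq_bot.1 (Submodule.finrank_eq_zero.1 h))
    have h5 : R (en Q t) = K (en Q y) := Submodule.eq_of_le_of_finrank_le h1 (by omega)
    have h6 := v_plane (p := p) hG hf D.card (H := centralizer ({t} : Set ↥(E Q))) hK hnd he he0 hQe
      (fun g hg x hx => by
        rw [← h5] at hx ⊢
        exact R_inv (s := en Q g) (by rw [← map_mul, ← map_mul, mem_centralizer_singleton_iff.1 hg]) hx)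
    omega
  · rw [hdim] at hm
    have hmn : m = n - 1 := by omega
    subst hmn
    have hsq : ¬ s ∣ Nat.card F - 1 := by
      intro h3
      have h4 : s ∣ Nat.card F ^ (n - 1) - 1 := by
        have h5 := Nat.sub_dvd_pow_sub_pow (Nat.card F) 1 (n - 1)
        rw [one_pow] at h5
        exact h3.trans h5
      have h5 := Nat.dvd_sub hpm h4
      have h6 : 1 ≤ Nat.card F ^ (n - 1) := Nat.one_le_pow _ _ Nat.card_pos
      have h7 : Nat.card F ^ (n - 1) + 1 - (Nat.card F ^ (n - 1) - 1) = 2 := by omega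
      rw [h7] at h5
      exact hs2 ((Nat.prime_dvd_prime_iff_eq hs.out Nat.prime_two).1 h5)
    have hKK : K (en Q t) ≤ K (en Q y) := by
      intro w hw
      obtain ⟨k, hk, r, hr, rfl⟩ := decomp hy' hlF w
      have h2 : r = 0 := by
        refine nondeg_R (isom_en y) (polar_nondeg hG) hy' hlF hr (fun x hx => ?_)
        have h3 : polarBilin Q (k + r) x = 0 := perp_KR (isom_en t) hw (h hx)
        have h4 : polarBilin Q k x = 0 := perp_KR (isom_en y) hk hx
        rw [map_add, LinearMap.add_apply, h4, zero_add] at h3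
        rw [polarBilin_apply_apply, polar_comm]
        exact h3
      rw [h2, add_zero]
      exact hk
    refine v_cent hG hf D.card hsF ht hsq (fun u hu hQu hu0 w hw huw => ?_)
    obtain ⟨u', hu', huu', -, -, hdec⟩ := exists_pair hK hnd (hKK hu) hu0 hQu
    have h2 := hdec w (hKK hw)
    rw [huw, zero_smul, add_zero] at h2
    rw [h2]
    exact Submodule.smul_mem _ _ (Submodule.mem_span_singleton_self u)

end tori

end Cfsg.Agent.H311.PD
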