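import Cfsg.Agent.H311.PD.Minus
import Cfsg.Agent.H311.PD.Trans
import Cfsg.Agent.H160.PD.Tools

/-!
# S4246, row `POmega^-_{2n}(q)`: the two primes (helper311)
-/

set_option autoImplicit false
set_option linter.unusedSectionVars false

namespace Cfsg.Agent.H311.PD

open QuadraticMap Module Subgroup Cfsg.Agent.LieClassical.OrthCore Cfsg.Agent.LieClassical.OrthTrans
open Cfsg.Agent.ClassicalGeometry.OrthSemi Cfsg.Agent.ClassicalGeometry.OrthAut1
open Cfsg.Agent.H200.LinFix Cfsg.Agent.H200.RowOrth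
open Cfsg.Agent.H160.PD (v v_mono v_eq_zero v_pos Fx mem_Fx out Good Two One NoOdd Inc noOdd_of_uniq odd_bound_of_uniq)

variable {F V : Type*} [Field F] [AddCommGroup V] [Module F V] {Q : QuadraticForm F V} [Finite V]

section tori

variable [Finite F] {p f n : ℕ} [hp : Fact p.Prime]

/-- all the data of the minus type -/
structure Dat2 (Q : QuadraticForm F V) (p f n : ℕ) : Prop extends Dat Q p f n where
  ord : Nat.gcd 4 ((p ^ f) ^ n + 1) * Nat.card (P Q) = (p ^ f) ^ (n * (n - 1)) * ((p ^ f) ^ n + 1) *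
      ∏ i ∈ Finset.range (n - 1), ((p ^ f) ^ (2 * (i + 1)) - 1)
  out : ∃ c, out (P Q) = c * f ∧ (c = 2 ∨ (p ≠ 2 ∧ (c = 4 ∨ c = 8)))
  aut : ∀ a : MulAut (P Q), ∃ M : Gam Q, a = Psi Q M
  simple : IsSimpleGroup (P Q)
  na : ¬ IsMulCommutative (P Q)

/-- a primitive prime -/
structure Prm (F : Type*) [Field F] (p f e l : ℕ) : Prop where
  prime : l.Prime
  two : l ≠ 2
  sup : ∀ m, l ∣ p ^ m - 1 → f * e ∣ m
  dvd : l ∣ (p ^ f) ^ e - 1
  le : f * e + 1 ≤ l
  ord : Ordd l (Nat.card F) e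
  cast : (l : F) ≠ 0

theorem exists_prm (hF : Nat.card F = p ^ f) (hpF : (p : F) = 0) (hf : 1 ≤ f) {e : ℕ} (he : 3 ≤ e)
    (h6 : ¬ (p = 2 ∧ f * e = 6)) : ∃ l, Prm F p f e l := by
  obtain ⟨l, hl, hl2, h1, h2, h3, h4, h5⟩ := exists_super hp.out hf he h6
  have := Fact.mk hl
  have hc : CharP F p := (CharP.charP_iff_prime_eq_zero hp.out).2 hpF
  exact ⟨l, hl, hl2, h1, h2, h3, hF ▸ h4, natCast_ne_of_not_dvd hp.out h5⟩

theorem Prm.ne_char {e l : ℕ} (h : Prm F p f e l) (hpF : (p : F) = 0) : l ≠ p := by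
  rintro rfl
  exact h.cast hpF

/-- irreducibility over the prime field -/
theorem Prm.irrZ (hF : Nat.card F = p ^ f) {e l : ℕ} (h : Prm F p f e l) (hV : finrank F V < 2 * e) (y : ↥(E Q))
    (hy : y ^ l = 1) : IrrZ (en Q y) (R (en Q y)) := by
  have := Fact.mk h.prime
  by_cases hy1 : y = 1
  · subst hy1
    intro U hU _
    left
    rw [eq_bot_iff]
    intro u hu
    have h2 := hU u hu
    rw [map_one, R_eq_bot.2 rfl] at h2
    exact h2
  · have hy' : en Q y ^ l = 1 := by rw [← map_pow, hy, map_one]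
    exact irrZ_of hp.out hF h.sup h.cast hy' (finrank_R_eq h.ord h.cast hV hy hy1).le

/-- lifting an element of order `l` -/
theorem exists_lift_ord (hG : LieClassical.OrthTrans.Good Q) {l : ℕ} (hl : l.Prime) (hl2 : l ≠ 2) {x : P Q}
    (hx : orderOf x = l) : ∃ y : ↥(E Q), y ^ l = 1 ∧ y ≠ 1 ∧ (QuotientGroup.mk y : P Q) = x := by
  have := Fact.mk hl
  obtain ⟨y, hy, hyx⟩ := lift_pow hG x (hl.odd_of_ne_two hl2) (by rw [← hx, pow_orderOf_eq_one])
  refine ⟨y, hy, ?_, hyx⟩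
  rintro rfl
  rw [← hyx, QuotientGroup.mk_one, orderOf_one] at hx
  exact hl.one_lt.ne hx

theorem Dat2.out_char (D : Dat2 Q p f n) : (H160.PD.out (P Q)).factorization p ≤ f := by
  obtain ⟨c, h1, h2⟩ := D.out
  rw [h1]
  exact fac_out_char hp.out D.hf h2

theorem Dat2.out_odd (D : Dat2 Q p f n) {t : ℕ} (ht : t.Prime) (ht2 : t ≠ 2) :
    (H160.PD.out (P Q)).factorization t = f.factorization t := by
  obtain ⟨c, h1, h2⟩ := D.out
  rw [h1]
  exact fac_out_odd ht ht2 D.hf h2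

theorem Dat2.out_char_odd (D : Dat2 Q p f n) (hp2 : p ≠ 2) : (H160.PD.out (P Q)).factorization p + 1 ≤ f := by
  rw [D.out_odd hp.out hp2]
  have hf := D.hf
  exact Nat.factorization_lt p (by omega)

theorem Dat2.v_char (D : Dat2 Q p f n) : v p (P Q) = f * (n * (n - 1)) := by
  have hfinE : Finite ↥(E Q) := finite_E
  have hfinP : Finite (P Q) := inferInstance
  exact fac_minus_char hp.out D.hf D.hn Nat.card_pos.ne' D.ord

theorem Dat2.v_odd (D : Dat2 Q p f n) {t : ℕ} (ht : t.Prime) (ht2 : t ≠ 2) (htp : t ≠ p) :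
    v t (P Q) = ((p ^ f) ^ n + 1).factorization t + ((p ^ f) ^ (n - 1) + 1).factorization t +
      ((p ^ f) ^ (n - 1) - 1).factorization t +
        (∏ i ∈ Finset.range (n - 2), ((p ^ f) ^ (2 * (i + 1)) - 1)).factorization t := by
  have hfinE : Finite ↥(E Q) := finite_E
  have hfinP : Finite (P Q) := inferInstance
  exact fac_minus_odd ht ht2 hp.out htp D.hf D.hn Nat.card_pos.ne' D.ord

theorem Dat2.good_first (D : Dat2 Q p f n) {t : ℕ} (ht : t.Prime) (ht2 : t ≠ 2) (htp : t ≠ p)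
    (hd : t ∣ (p ^ f) ^ n + 1) : (H160.PD.out (P Q)).factorization t < v t (P Q) := by
  have hn := D.hn
  have h1 := fac_prim ht ht2 hp.out D.hf (show 1 ≤ n by omega) hd
  rw [D.out_odd ht ht2, D.v_odd ht ht2 htp]
  omega

theorem Dat2.good_second (D : Dat2 Q p f n) {t : ℕ} (ht : t.Prime) (ht2 : t ≠ 2) (htp : t ≠ p)
    (hd : t ∣ (p ^ f) ^ (n - 1) + 1) : (H160.PD.out (P Q)).factorization t < v t (P Q) := by
  have hn := D.hn
  have h1 := fac_prim ht ht2 hp.out D.hf (show 1 ≤ n - 1 by omega) hd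
  rw [D.out_odd ht ht2, D.v_odd ht ht2 htp]
  omega

theorem Prm.dvd_first (D : Dat2 Q p f n) {l : ℕ} (h : Prm F p f (2 * n) l) : l ∣ (p ^ f) ^ n + 1 := by
  have := Fact.mk h.prime
  have hn := D.hn
  exact dvd_add_one (by omega) (D.card ▸ h.ord) h.dvd

theorem Prm.dvd_second (D : Dat2 Q p f n) {l : ℕ} (h : Prm F p f (2 * (n - 1)) l) : l ∣ (p ^ f) ^ (n - 1) + 1 := by
  have := Fact.mk h.prime
  have hn := D.hn
  exact dvd_add_one (by omega) (D.card ▸ h.ord) h.dvd

/-- the normalisers of the elements of type `2n` -/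
theorem Dat2.norm_first (D : Dat2 Q p f n) {l : ℕ} (h : Prm F p f (2 * n) l) {x : P Q} (hx : orderOf x = l) :
    Nat.card (normalizer ((zpowers x : Subgroup (P Q)) : Set (P Q))) ∣ ((p ^ f) ^ n + 1) * (2 * n) := by
  have := Fact.mk h.prime
  have hV := D.dim
  obtain ⟨y, hy, hy1, rfl⟩ := exists_lift_ord D.good h.prime h.two hx
  have h1 := cent_first D.toDat h.two h.cast h.ord hy hy1
  have h2 := card_normalizer D.good h.two h.cast hy hy1 h1.1
  refine h2.trans ?_
  rw [h1.2.1, ← D.card]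
  exact Nat.mul_dvd_mul_right h1.2.2.2 _

/-- the normalisers of the elements of type `2n - 2` -/
theorem Dat2.norm_second (D : Dat2 Q p f n) {l : ℕ} (h : Prm F p f (2 * (n - 1)) l) {x : P Q} (hx : orderOf x = l) :
    Nat.card (normalizer ((zpowers x : Subgroup (P Q)) : Set (P Q))) ∣
      ((p ^ f) ^ (n - 1) + 1) * (2 * (p ^ f - 1)) * (2 * (n - 1)) := by
  have := Fact.mk h.prime
  have hV := D.dim
  obtain ⟨y, hy, hy1, rfl⟩ := exists_lift_ord D.good h.prime h.two hx
  have h1 := cent_second D.toDat h.two h.cast h.ord hy hy1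
  have h2 := card_normalizer D.good h.two h.cast hy hy1 h1.1
  refine h2.trans ?_
  rw [h1.2.1, ← D.card]
  exact Nat.mul_dvd_mul_right h1.2.2.2.2 _

theorem Dat2.uniq (D : Dat2 Q p f n) {e l : ℕ} (h : Prm F p f e l) (hV : finrank F V < 2 * e) :
    H160.PD.Uniq (P Q) l := by
  have hfinE : Finite ↥(E Q) := finite_E
  have := Fact.mk h.prime
  obtain ⟨P', hP'⟩ := cyclic_sylow D.good h.two h.cast h.ord hV
  exact uniq_of_sylow P' hP'

/-- **`NoOdd`.** -/
theorem Dat2.noOdd (D : Dat2 Q p f n) {r s : ℕ} (hr : Prm F p f (2 * n) r) (hs : Prm F p f (2 * (n - 1)) s) :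
    NoOdd (P Q) r s := by
  have hfinE : Finite ↥(E Q) := finite_E
  have hn := D.hn
  have hf := D.hf
  have hV := D.dim
  have hrF := Fact.mk hr.prime
  have hsF := Fact.mk hs.prime
  have h1 := hr.dvd_first D
  have h2 := hs.dvd_second D
  have hrl : 2 * n + 1 ≤ r := by
    have h3 := hr.le
    have h4 : 1 * (2 * n) ≤ f * (2 * n) := Nat.mul_le_mul_right _ hf
    omega
  have hsl : 2 * (n - 1) + 1 ≤ s := by
    have h3 := hs.le
    have h4 : 1 * (2 * (n - 1)) ≤ f * (2 * (n - 1)) := Nat.mul_le_mul_right _ hf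
    omega
  have e1 : ¬ s ∣ (p ^ f) ^ n + 1 := fun h => arith_succ (p := s) hs.two (by omega) h h2
  have e2 : ¬ r ∣ (p ^ f) ^ (n - 1) + 1 := fun h => arith_succ (p := r) hr.two (by omega) h1 h
  refine noOdd_of_uniq hr.prime hs.prime (fun h => e1 (h ▸ h1)) (D.uniq hr (by omega)) (D.uniq hs (by omega))
    (fun x hx hd => ?_) (fun x hx hd => ?_)
  · have h3 := hd.trans (D.norm_first hr hx)
    rcases hs.prime.dvd_mul.1 h3 with h4 | h4
    · exact e1 h4
    · rcases hs.prime.dvd_mul.1 h4 with h5 | h5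
      · exact hs.two ((Nat.prime_dvd_prime_iff_eq hs.prime Nat.prime_two).1 h5)
      · have := Nat.le_of_dvd (by omega) h5
        omega
  · have h3 := hd.trans (D.norm_second hs hx)
    rcases hr.prime.dvd_mul.1 h3 with h4 | h4
    · rcases hr.prime.dvd_mul.1 h4 with h5 | h5
      · exact e2 h5
      · rcases hr.prime.dvd_mul.1 h5 with h6 | h6
        · exact hr.two ((Nat.prime_dvd_prime_iff_eq hr.prime Nat.prime_two).1 h6)
        · have h7 := hr.ord 1 (by rw [pow_one, D.card]; exact h6)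
          have := Nat.le_of_dvd one_pos h7
          omega
    · have := Nat.le_of_dvd (by omega) h4
      omega

/-- **`Inc`.** -/
theorem Dat2.inc (D : Dat2 Q p f n) {r s : ℕ} (hr : Prm F p f (2 * n) r) (hs : Prm F p f (2 * (n - 1)) s) :
    Inc (P Q) r s := by
  have hfinE : Finite ↥(E Q) := finite_E
  have hfd : FiniteDimensional F V := inferInstance
  have hn := D.hn
  have hV := D.dim
  have hrF := Fact.mk hr.prime
  have hsF := Fact.mk hs.prime
  have := D.simple
  intro b hb hb2 x hx hbx x' hx' hbx'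
  have hbF := Fact.mk hb
  obtain ⟨t, y, ht, ht1, hbt, hy, hy1, -, hty⟩ := lift_aut D.good D.na D.aut hb hb2 hr.two
    (fun y hy => hr.irrZ D.card (by omega) y hy) hx hbx
  obtain ⟨z, hz, hz1, hzx⟩ := exists_lift_ord D.good hs.prime hs.two hx'
  have htz : t * z = z * t := by
    rw [hbt, MulAut.conj_apply, mul_inv_eq_iff_eq_mul, ← hzx] at hbx'
    exact (comm_of_mk D.good (hs.prime.odd_of_ne_two hs.two) hz hbx'.symm).symm
  obtain ⟨hKt, hd, -⟩ := v_comm_first D.toDat hr.two hr.cast hr.ord hy hy1 hb2 ht ht1 hty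
  have hirr := (cent_second D.toDat hs.two hs.cast hs.ord hz hz1).1
  have hdim := (cent_second D.toDat hs.two hs.cast hs.ord hz hz1).2.1
  rcases comm_elt D.good hs.two hs.cast hz hirr ht htz with h | ⟨-, m, hm, hpm⟩
  · have h1 : R (en Q z) ≤ K (en Q t) := fun w hw => mem_K.2 (h w hw)
    rw [hKt, le_bot_iff] at h1
    rw [h1, finrank_bot] at hdim
    omega
  · rw [hdim] at hm
    have hmn : m = n - 1 := by omega
    subst hmn
    exact arith_succ (p := orderOf b) hb2 (by omega) hd hpm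

/-- **`syl₀`.** -/
theorem Dat2.syl_first (D : Dat2 Q p f n) {r : ℕ} (hr : Prm F p f (2 * n) r) {b : MulAut (P Q)}
    (hb : (orderOf b).Prime) (hb2 : orderOf b ≠ 2) (hbp : orderOf b ≠ p) {x : P Q} (hx : orderOf x = r)
    (hbx : b x = x) : v p (Fx b) + f * (2 * n - 2) ≤ v p (P Q) + f := by
  have hfinE : Finite ↥(E Q) := finite_E
  have hn := D.hn
  have hV := D.dim
  have hrF := Fact.mk hr.prime
  have := D.simple
  have hbF := Fact.mk hb
  have hbcast : ((orderOf b : ℕ) : F) ≠ 0 := by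
    have hc : CharP F p := (CharP.charP_iff_prime_eq_zero hp.out).2 D.char
    refine natCast_ne_of_not_dvd hp.out fun h => hbp ((Nat.prime_dvd_prime_iff_eq hb hp.out).1 h)
  obtain ⟨t, y, ht, ht1, hbt, hy, hy1, -, hty⟩ := lift_aut D.good D.na D.aut hb hb2 hr.two
    (fun y hy => hr.irrZ D.card (by omega) y hy) hx hbx
  obtain ⟨hKt, hd, hq⟩ := v_comm_first D.toDat hr.two hr.cast hr.ord hy hy1 hb2 ht ht1 hty
  have h1 := v_cent D.good D.hf D.card hbcast ht hq (fun u hu _ hu0 => by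
    rw [hKt] at hu
    exact absurd hu hu0)
  have h2 := v_centralizer_mk D.good (hb.odd_of_ne_two hb2) ht p
  have h3 : v p (Fx b) ≤ v p (centralizer ({(QuotientGroup.mk t : P Q)} : Set (P Q))) := by
    rw [← Fx_conj, ← hbt]
  rw [v_P_char D.good D.char]
  rw [hV] at h1
  omega

/-- **`syl₁`.** -/
theorem Dat2.syl_second (D : Dat2 Q p f n) {r : ℕ} (hr : Prm F p f (2 * (n - 1)) r) {b : MulAut (P Q)}
    (hb : (orderOf b).Prime) (hb2 : orderOf b ≠ 2) (hbp : orderOf b ≠ p) {x : P Q} (hx : orderOf x = r)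
    (hbx : b x = x) : v p (Fx b) + f * (2 * n - 2) ≤ v p (P Q) + f := by
  have hfinE : Finite ↥(E Q) := finite_E
  have hn := D.hn
  have hV := D.dim
  have hrF := Fact.mk hr.prime
  have := D.simple
  have hbF := Fact.mk hb
  have hbcast : ((orderOf b : ℕ) : F) ≠ 0 := by
    have hc : CharP F p := (CharP.charP_iff_prime_eq_zero hp.out).2 D.char
    refine natCast_ne_of_not_dvd hp.out fun h => hbp ((Nat.prime_dvd_prime_iff_eq hb hp.out).1 h)
  obtain ⟨t, y, ht, ht1, hbt, hy, hy1, -, hty⟩ := lift_aut D.good D.na D.aut hb hb2 hr.two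
    (fun y hy => hr.irrZ D.card (by omega) y hy) hx hbx
  have h1 := v_comm_second D.toDat hr.two hr.cast hr.ord hy hy1 hb2 hbcast ht ht1 hty
  have h2 := v_centralizer_mk D.good (hb.odd_of_ne_two hb2) ht p
  have h3 : v p (Fx b) ≤ v p (centralizer ({(QuotientGroup.mk t : P Q)} : Set (P Q))) := by
    rw [← Fx_conj, ← hbt]
  rw [v_P_char D.good D.char]
  rw [hV] at h1
  omega

end tori

end Cfsg.Agent.H311.PD
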