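import Cfsg.Agent.H311.PD.Minus2

/-!
# S4246, row `POmega^-_{2n}(q)`: the criterion with two primes (helper311)
-/

set_option autoImplicit false
set_option linter.unusedSectionVars false

namespace Cfsg.Agent.H311.PD

open QuadraticMap Module Subgroup Cfsg.Agent.LieClassical.OrthCore Cfsg.Agent.LieClassical.OrthTrans
open Cfsg.Agent.ClassicalGeometry.OrthSemi Cfsg.Agent.ClassicalGeometry.OrthAut1
open Cfsg.Agent.H200.LinFix Cfsg.Agent.H200.RowOrth
open Cfsg.Agent.H160.PD (v v_mono v_eq_zero v_pos Fx mem_Fx out Good Two One NoOdd Inc noOdd_of_uniq odd_bound_of_uniq)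

variable {F V : Type*} [Field F] [AddCommGroup V] [Module F V] {Q : QuadraticForm F V} [Finite V]

section tori

variable [Finite F] {p f n : ℕ} [hp : Fact p.Prime]

theorem Dat2.cent_p_first (D : Dat2 Q p f n) {l : ℕ} (h : Prm F p f (2 * n) l) {x : P Q} (hx : orderOf x = l) :
    v p (centralizer ({x} : Set (P Q))) = 0 := by
  have := Fact.mk h.prime
  obtain ⟨y, hy, hy1, rfl⟩ := exists_lift_ord D.good h.prime h.two hx
  have h1 := v_centralizer_mk D.good (h.prime.odd_of_ne_two h.two) hy p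
  rw [v_first D.toDat h.two h.cast h.ord hy hy1] at h1
  omega

theorem Dat2.cent_p_second (D : Dat2 Q p f n) {l : ℕ} (h : Prm F p f (2 * (n - 1)) l) {x : P Q}
    (hx : orderOf x = l) : v p (centralizer ({x} : Set (P Q))) ≤ 1 := by
  have := Fact.mk h.prime
  obtain ⟨y, hy, hy1, rfl⟩ := exists_lift_ord D.good h.prime h.two hx
  exact (v_centralizer_mk D.good (h.prime.odd_of_ne_two h.two) hy p).trans
    (v_second D.toDat h.two h.cast h.ord hy hy1)

theorem Dat2.cent_t_first (D : Dat2 Q p f n) {l : ℕ} (h : Prm F p f (2 * n) l) {x : P Q} (hx : orderOf x = l) (t : ℕ) :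
    v t (centralizer ({x} : Set (P Q))) ≤ ((p ^ f) ^ n + 1).factorization t := by
  have hfinE : Finite ↥(E Q) := finite_E
  have := Fact.mk h.prime
  obtain ⟨y, hy, hy1, rfl⟩ := exists_lift_ord D.good h.prime h.two hx
  have h1 := cent_first D.toDat h.two h.cast h.ord hy hy1
  refine (v_centralizer_mk D.good (h.prime.odd_of_ne_two h.two) hy t).trans ?_
  rw [← D.card]
  exact fac_mono (Nat.succ_ne_zero _) h1.2.2.2

theorem Dat2.cent_t_second (D : Dat2 Q p f n) {l : ℕ} (h : Prm F p f (2 * (n - 1)) l) {x : P Q}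
    (hx : orderOf x = l) {t : ℕ} (ht : t.Prime) (ht2 : t ≠ 2) :
    v t (centralizer ({x} : Set (P Q))) ≤ ((p ^ f) ^ (n - 1) + 1).factorization t + (p ^ f - 1).factorization t := by
  have hfinE : Finite ↥(E Q) := finite_E
  have := Fact.mk h.prime
  obtain ⟨y, hy, hy1, rfl⟩ := exists_lift_ord D.good h.prime h.two hx
  have h1 := cent_second D.toDat h.two h.cast h.ord hy hy1
  refine (v_centralizer_mk D.good (h.prime.odd_of_ne_two h.two) hy t).trans ?_
  have hq : 1 < Nat.card F := Finite.one_lt_card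
  have h2 : Nat.card F - 1 ≠ 0 := by omega
  refine (fac_mono (t := t) (mul_ne_zero (Nat.succ_ne_zero _) (mul_ne_zero two_ne_zero h2)) h1.2.2.2.2).trans ?_
  rw [Nat.factorization_mul (Nat.succ_ne_zero _) (mul_ne_zero two_ne_zero h2),
    Nat.factorization_mul two_ne_zero h2, Finsupp.add_apply, Finsupp.add_apply, ← D.card]
  have h3 : (2 : ℕ).factorization t = 0 :=
    Nat.factorization_eq_zero_of_not_dvd fun h => ht2 ((Nat.prime_dvd_prime_iff_eq ht Nat.prime_two).1 h)
  rw [h3, zero_add]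

/-- **The subgroups of odd order, type `2n`.** -/
theorem Dat2.odd_first (D : Dat2 Q p f n) (hp2 : p ≠ 2) {r : ℕ} (hr : Prm F p f (2 * n) r) (H : Subgroup (P Q))
    (hH : Odd (Nat.card H)) (hrH : r ∣ Nat.card H) : v p H ≤ (2 * n).factorization p := by
  have hfinE : Finite ↥(E Q) := finite_E
  have hn := D.hn
  have hV := D.dim
  have hrF := Fact.mk hr.prime
  have h0 := odd_bound_of_uniq (S := P Q) (a := 0) (b := (2 * n).factorization p) hp.out hr.prime
    (hr.ne_char D.char).symm (D.uniq hr (by omega)) (fun X hX x hx hxo => ?_) (fun x hx => ?_) H hH hrH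
  · omega
  · obtain ⟨y, hy, hy1, rfl⟩ := exists_lift_ord D.good hr.prime hr.two hxo
    have h1 := cent_first D.toDat hr.two hr.cast hr.ord hy hy1
    have h2 := noNorm_of_ti D.good hp2 D.char (ti_of_irr D.good hr.cast hy h1.1 fun v hv _ => by
      rw [h1.2.2.1] at hv
      exact hv) X hX hx
    rw [h2, v, Subgroup.card_bot, Nat.factorization_one]
    rfl
  · refine (fac_mono (mul_ne_zero (Nat.succ_ne_zero _) (by omega)) (D.norm_first hr hx)).trans ?_
    rw [Nat.factorization_mul (Nat.succ_ne_zero _) (by omega), Finsupp.add_apply,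
      Nat.factorization_eq_zero_of_not_dvd (not_dvd_pow_add_one hp.out D.hf (by omega)), zero_add]

/-- **The subgroups of odd order, type `2n - 2`.** -/
theorem Dat2.odd_second (D : Dat2 Q p f n) (hp2 : p ≠ 2) {r : ℕ} (hr : Prm F p f (2 * (n - 1)) r)
    (H : Subgroup (P Q)) (hH : Odd (Nat.card H)) (hrH : r ∣ Nat.card H) :
    v p H ≤ f * (2 * n - 2) + (2 * (n - 1)).factorization p := by
  have hfinE : Finite ↥(E Q) := finite_E
  have hn := D.hn
  have hV := D.dim
  have hrF := Fact.mk hr.prime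
  refine odd_bound_of_uniq (S := P Q) hp.out hr.prime
    (hr.ne_char D.char).symm (D.uniq hr (by omega)) (fun X hX x hx hxo => ?_) (fun x hx => ?_) H hH hrH
  · obtain ⟨y, hy, hy1, rfl⟩ := exists_lift_ord D.good hr.prime hr.two hxo
    obtain ⟨h1, h2, h3, ⟨e, he, he0, hQe⟩, -⟩ := cent_second D.toDat hr.two hr.cast hr.ord hy hy1
    obtain ⟨T, hT, hmap, hnorm⟩ := Cfsg.Agent.SigZeroU5.exists_lift (Subgroup.center ↥(E Q)) le_rfl
      (not_dvd_center D.good hp2) hX
    have h4 := v_norm_plane D.good D.hf D.card hr.two hr.cast hy hy1 h1 h2 h3 he he0 hQe hT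
      (fun g => hnorm y hx g)
    rw [hV] at h4
    refine le_trans ?_ h4
    rw [← hmap]
    exact fac_mono Nat.card_pos.ne' (Subgroup.card_map_dvd _ _)
  · have h0 : (p ^ f - 1) ≠ 0 := by
      have hq : 1 < Nat.card F := Finite.one_lt_card
      rw [D.card] at hq
      omega
    have h1 : ((p ^ f) ^ (n - 1) + 1) * (2 * (p ^ f - 1)) ≠ 0 :=
      mul_ne_zero (Nat.succ_ne_zero _) (mul_ne_zero two_ne_zero h0)
    refine (fac_mono (mul_ne_zero h1 (by omega)) (D.norm_second hr hx)).trans ?_
    rw [Nat.factorization_mul h1 (by omega), Finsupp.add_apply,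
      fac_plane_odd hp.out hp2 D.hf (by omega), zero_add]

/-- **The criterion.** -/
theorem Dat2.two (D : Dat2 Q p f n) {r s : ℕ} (hr : Prm F p f (2 * n) r) (hs : Prm F p f (2 * (n - 1)) s) :
    Two (P Q) p r s 0 1 1 ((2 * n).factorization p) (f * (2 * n - 2) + (2 * (n - 1)).factorization p) := by
  have hfinE : Finite ↥(E Q) := finite_E
  have hn := D.hn
  have hf := D.hf
  have hV := D.dim
  have hrF := Fact.mk hr.prime
  have hsF := Fact.mk hs.prime
  have hvS := D.v_char
  have hout := D.out_char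
  have hnn : f * (3 * n) ≤ f * (n * (n - 1)) := by
    apply Nat.mul_le_mul_left
    rw [mul_comm 3 n]
    exact Nat.mul_le_mul_left _ (by omega)
  have hfn : 3 * n ≤ f * (3 * n) := Nat.le_mul_of_pos_left _ hf
  have hffn : f * 12 ≤ f * (3 * n) := Nat.mul_le_mul_left _ (by omega)
  have hnf : f * (2 * n - 2) + f * 2 + f * n = f * (3 * n) := by
    rw [← mul_add, ← mul_add]
    congr 1
    omega
  refine
    { prime := hp.out
      good₀ := ⟨hr.prime, hr.two, D.good_first hr.prime hr.two (hr.ne_char D.char) (hr.dvd_first D)⟩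
      good₁ := ⟨hs.prime, hs.two, D.good_second hs.prime hs.two (hs.ne_char D.char) (hs.dvd_second D)⟩
      cent₀ := fun x hx => (D.cent_p_first hr hx).le
      cent₁ := fun x hx => D.cent_p_second hs hx
      noOdd := D.noOdd hr hs
      inc := D.inc hr hs
      syl₀ := fun b hb hb2 hbp x hx hbx => ?_
      syl₁ := fun b hb hb2 hbp x hx hbx => ?_
      cc := ?_
      num := fun t ht ht2 htp htS htr hts => ?_
      odd₀ := fun hp2 => D.odd_first hp2 hr
      odd₁ := fun hp2 => D.odd_second hp2 hs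
      n₀ := fun hp2 => ?_
      n₁ := fun hp2 => ?_
      n₀₁ := fun hp2 => ?_ }
  · have h1 := D.syl_first hr hb hb2 hbp hx hbx
    have h2 : f * 5 ≤ f * (2 * n - 2) - f := by
      have h3 : f * 6 ≤ f * (2 * n - 2) := Nat.mul_le_mul_left _ (by omega)
      omega
    simp only [le_refl, max_eq_left]
    omega
  · have h1 := D.syl_second hs hb hb2 hbp hx hbx
    have h2 : f * 5 ≤ f * (2 * n - 2) - f := by
      have h3 : f * 6 ≤ f * (2 * n - 2) := Nat.mul_le_mul_left _ (by omega)
      omega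
    simp only [zero_le, max_eq_right]
    omega
  · rw [hvS]
    omega
  · have hd : t ∣ ((p ^ f) ^ n + 1) * ∏ i ∈ Finset.range (n - 1), ((p ^ f) ^ (2 * (i + 1)) - 1) := by
      have h1 := D.ord
      have h2 : t ∣ (p ^ f) ^ (n * (n - 1)) *
          (((p ^ f) ^ n + 1) * ∏ i ∈ Finset.range (n - 1), ((p ^ f) ^ (2 * (i + 1)) - 1)) := by
        rw [← mul_assoc, ← h1]
        exact Dvd.dvd.mul_left htS _
      rcases ht.dvd_mul.1 h2 with h3 | h3
      · exact absurd ((Nat.prime_dvd_prime_iff_eq ht hp.out).1 (ht.dvd_of_dvd_pow (ht.dvd_of_dvd_pow h3))) htp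
      · exact h3
    have htF := Fact.mk ht
    have htc : (t : F) ≠ 0 := by
      have hc : CharP F p := (CharP.charP_iff_prime_eq_zero hp.out).2 D.char
      exact natCast_ne_of_not_dvd hp.out fun h => htp ((Nat.prime_dvd_prime_iff_eq ht hp.out).1 h)
    rcases num_minus ht ht2 hp.out htp hf hn hd with ⟨h1, h2⟩ | ⟨h1, h2⟩ | h1
    · left
      refine ⟨D.good_first ht ht2 htp h2, fun x hx => ?_⟩
      obtain ⟨y, hy, hy1, rfl⟩ := exists_lift_ord D.good ht ht2 hx
      refine (v_centralizer_mk D.good (ht.odd_of_ne_two ht2) hy p).trans ?_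
      rw [v_first D.toDat ht2 htc (D.card ▸ h1) hy hy1]
      exact zero_le_one
    · left
      refine ⟨D.good_second ht ht2 htp h2, fun x hx => ?_⟩
      obtain ⟨y, hy, hy1, rfl⟩ := exists_lift_ord D.good ht ht2 hx
      exact (v_centralizer_mk D.good (ht.odd_of_ne_two ht2) hy p).trans
        (v_second D.toDat ht2 htc (D.card ▸ h1) hy hy1)
    · right
      intro x y hx hy
      have h2 := D.cent_t_first hr hx t
      have h3 := D.cent_t_second hs hy ht ht2
      rw [D.out_odd ht ht2, D.v_odd ht ht2 htp]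
      omega
  · have h1 := fac_two_mul_le (n := n) hp.out hp2 (by omega)
    rw [hvS]
    omega
  · have h1 := fac_two_mul_le (n := n - 1) hp.out hp2 (by omega)
    have h2 : n ≤ f * n := Nat.le_mul_of_pos_left _ hf
    rw [hvS]
    omega
  · have h1 := fac_two_mul_le (n := n) hp.out hp2 (by omega)
    have h2 := fac_two_mul_le (n := n - 1) hp.out hp2 (by omega)
    have h3 := D.out_char_odd hp2
    have h4 : 1 * (2 * n - 3) ≤ f * (2 * n - 3) := Nat.mul_le_mul_right _ hf
    have h5 : f * (4 * (n - 1)) ≤ f * (n * (n - 1)) := by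
      apply Nat.mul_le_mul_left
      exact Nat.mul_le_mul_right _ hn
    have h6 : f * (4 * (n - 1)) = f * (2 * n - 2) + (f * (2 * n - 3) + f) := by
      obtain ⟨k, rfl⟩ := Nat.exists_eq_add_of_le hn
      have e1 : 4 + k - 1 = k + 3 := by omega
      have e2 : 2 * (4 + k) - 2 = 2 * k + 6 := by omega
      have e3 : 2 * (4 + k) - 3 = 2 * k + 5 := by omega
      rw [e1, e2, e3]
      ring
    rw [hvS]
    omega

/-- **The row, `(q, n) ≠ (2, 4)`.** -/
theorem Dat2.row (D : Dat2 Q p f n) (h6 : ¬ (p = 2 ∧ f * (2 * (n - 1)) = 6)) : H160.PD.Row (P Q) := by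
  have hfinE : Finite ↥(E Q) := finite_E
  have hn := D.hn
  have := D.simple
  obtain ⟨r, hr⟩ := exists_prm (F := F) (p := p) (f := f) (e := 2 * n) D.card D.char D.hf (by omega) (by
    rintro ⟨-, h⟩
    have h1 : 1 * 8 ≤ f * (2 * n) := Nat.mul_le_mul D.hf (by omega)
    omega)
  obtain ⟨s, hs⟩ := exists_prm (F := F) (p := p) (f := f) (e := 2 * (n - 1)) D.card D.char D.hf (by omega) h6
  exact (D.two hr hs).row (H160.PD.center_eq_bot D.na)

end tori

end Cfsg.Agent.H311.PD
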