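import Cfsg.Agent.H311.PD.Cent
import Cfsg.Agent.Classification.InvCentU.FiveLib

/-!
# S4246, orthogonal rows: orders of centralisers and normalisers of elements of prime order (helper311)
-/

set_option autoImplicit false
set_option linter.unusedSectionVars false

namespace Cfsg.Agent.H311.PD

open QuadraticMap Module Subgroup Polynomial Cfsg.Agent.LieClassical.OrthCore Cfsg.Agent.LieClassical.OrthTrans
open Cfsg.Agent.ClassicalGeometry.OrthSemi Cfsg.Agent.ClassicalGeometry.OrthAut1
open Cfsg.Agent.H200.LinFix Cfsg.Agent.H200.RowOrth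
open Cfsg.Agent.H160.PD (v v_mono v_eq_zero v_pos)

/-! ### abstract part -/

section abs

variable {F W : Type*} [Field F] [AddCommGroup W] [Module F W] [Finite W] [Nontrivial W] {g : Module.End F W}
  (hirr : ∀ U : Submodule F W, (∀ u ∈ U, g u ∈ U) → U = ⊥ ∨ U = ⊤)

include hirr in
/-- a group of linear maps commuting with an irreducible map, of exponent dividing `n` -/
theorem card_range_dvd {C : Type*} [Group C] [Finite C] (ρ : C →* Module.End F W) (hρ : ∀ c, ρ c * g = g * ρ c)
    {n : ℕ} (hn : ∀ c, ρ c ^ n = 1) : ∃ L : Subgroup C, (∀ c, c ∈ L ↔ ρ c = 1) ∧ L.index ∣ n := by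
  classical
  have hP : Fact (Irreducible (minpoly F g)) := ⟨irreducible_minpoly hirr⟩
  obtain ⟨w, hw⟩ := exists_ne (0 : W)
  have hfin : Finite (KK g) := Finite.of_injective _ (phi_bijective hirr w hw).1
  have hinj : Function.Injective (phi g) := by
    have : Nontrivial (Module.End F W) := Module.End.instNontrivial
    exact (phi g).toRingHom.injective
  choose k hk using fun c => exists_phi hirr (hρ c)
  let f : C →* KK g :=
    { toFun := k
      map_one' := hinj (by rw [← hk, map_one, map_one])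
      map_mul' := fun a b => hinj (by rw [← hk, map_mul, map_mul, ← hk, ← hk]) }
  have hf : ∀ c, phi g (f c) = ρ c := fun c => (hk c).symm
  let f' : C →* (KK g)ˣ := f.toHomUnits
  have hf' : ∀ c, ((f' c : (KK g)ˣ) : KK g) = f c := fun c => rfl
  refine ⟨f'.ker, fun c => ?_, ?_⟩
  · rw [MonoidHom.mem_ker, Units.ext_iff, hf', Units.val_one, ← hf]
    constructor
    · intro h; rw [h, map_one]
    · intro h; exact hinj (by rw [h, map_one])
  · rw [index_ker]
    have hcyc : IsCyclic f'.range := inferInstance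
    obtain ⟨⟨x, hxr⟩, hx⟩ := hcyc.exists_ofOrder_eq_natCard
    rw [← hx]
    apply orderOf_dvd_of_pow_eq_one
    obtain ⟨c, rfl⟩ := hxr
    apply Subtype.ext
    change f' c ^ n = 1
    rw [Units.ext_iff, Units.val_pow_eq_pow_val, hf', Units.val_one]
    apply hinj
    rw [map_pow, hf, hn, map_one]

include hirr in
/-- the elements normalising an irreducible cyclic group -/
theorem pow_eq_one_of_norm {l : ℕ} [hl : Fact l.Prime] (hg : g ^ l = 1) (hg1 : g ≠ 1) {a a' : Module.End F W}
    (haa' : a' * a = 1) {j : ℕ} (hj : a * g = g ^ j * a) : j ^ finrank F W ≡ 1 [MOD l] := by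
  classical
  have hP : Fact (Irreducible (minpoly F g)) := ⟨irreducible_minpoly hirr⟩
  obtain ⟨w, hw⟩ := exists_ne (0 : W)
  have hfin : Finite (KK g) := Finite.of_injective _ (phi_bijective hirr w hw).1
  have hfinF : Finite F := Finite.of_injective (fun a : F => a • w) (smul_left_injective F hw)
  have hinj : Function.Injective (phi g) := by
    have : Nontrivial (Module.End F W) := Module.End.instNontrivial
    exact (phi g).toRingHom.injective
  have hfd : FiniteDimensional F W := inferInstance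
  have haa : a * a' = 1 := mul_eq_one_comm.1 haa'
  -- `g ^ j` is a root of the minimal polynomial
  have h1 : ∀ P : F[X], a * aeval g P = aeval (g ^ j) P * a := by
    intro P
    induction P using Polynomial.induction_on' with
    | add P R hP hR => rw [map_add, map_add, mul_add, add_mul, hP, hR]
    | monomial n c =>
      have h3 : ∀ n : ℕ, a * g ^ n = (g ^ j) ^ n * a := by
        intro n
        induction n with
        | zero => rw [pow_zero, pow_zero, mul_one, one_mul]
        | succ n ih => rw [pow_succ, pow_succ, ← mul_assoc, ih, mul_assoc, hj, mul_assoc]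
      rw [aeval_monomial, aeval_monomial, ← mul_assoc, ← Algebra.commutes c a, mul_assoc, mul_assoc, h3]
  have h2 : aeval (g ^ j) (minpoly F g) = 0 := by
    have h3 := h1 (minpoly F g)
    rw [minpoly.aeval, mul_zero] at h3
    have h4 := congrArg (· * a') h3
    simp only [zero_mul] at h4
    rw [mul_assoc, haa, mul_one] at h4
    exact h4.symm
  have h3 : aeval ((AdjoinRoot.root (minpoly F g)) ^ j) (minpoly F g) = 0 := by
    apply hinj
    rw [← Polynomial.aeval_algHom_apply, map_pow, phi_root, h2, map_zero]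
  let σ : KK g →ₐ[F] KK g := AdjoinRoot.liftAlgHom (minpoly F g) (Algebra.ofId F (KK g)) _ h3
  have hσ : σ (AdjoinRoot.root (minpoly F g)) = (AdjoinRoot.root (minpoly F g)) ^ j :=
    AdjoinRoot.liftAlgHom_root _ _ _ h3
  have hfdK : FiniteDimensional F (KK g) := inferInstance
  let e : KK g ≃ₐ[F] KK g := AlgEquiv.ofBijective σ (Algebra.IsAlgebraic.algHom_bijective σ)
  have he : ∀ x, e x = σ x := fun x => rfl
  have hcard : Nat.card (KK g ≃ₐ[F] KK g) = finrank F W := by
    rw [IsGalois.card_aut_eq_finrank, finrank_KK hirr]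
  have h4 : e ^ finrank F W = 1 := by rw [← hcard]; exact pow_card_eq_one'
  have h5 : ∀ k : ℕ, (e ^ k) (AdjoinRoot.root (minpoly F g)) = (AdjoinRoot.root (minpoly F g)) ^ (j ^ k) := by
    intro k
    induction k with
    | zero => rw [pow_zero, pow_zero, pow_one]; rfl
    | succ k ih =>
      rw [pow_succ', AlgEquiv.mul_apply, ih, map_pow, he, hσ, ← pow_mul, pow_succ, mul_comm]
  have h6 := h5 (finrank F W)
  rw [h4] at h6
  have h7 : g ^ (j ^ finrank F W) = g := by
    have h8 := congrArg (phi g) h6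
    rw [map_pow, phi_root] at h8
    rw [← h8]
    exact phi_root
  -- a unit
  let u : (Module.End F W)ˣ := ⟨g, g ^ (l - 1), by rw [← pow_succ', Nat.sub_add_cancel hl.out.one_le, hg],
    by rw [← pow_succ, Nat.sub_add_cancel hl.out.one_le, hg]⟩
  have hu : orderOf u = l := by
    apply orderOf_eq_prime
    · exact Units.ext hg
    · intro h8
      exact hg1 (congrArg Units.val h8)
  have h8 : u ^ (j ^ finrank F W) = u ^ 1 := by
    apply Units.ext
    rw [Units.val_pow_eq_pow_val, Units.val_pow_eq_pow_val, pow_one]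
    exact h7
  have h9 := pow_eq_pow_iff_modEq.1 h8
  rwa [hu] at h9

end abs

/-! ### elements of `E Q` -/

section conc

variable {F V : Type*} [Field F] [AddCommGroup V] [Module F V] {Q : QuadraticForm F V} [Finite V]
variable {l : ℕ} [hl : Fact l.Prime]

theorem restr_pow {W : Submodule F V} {a : Module.End F V} (h : ∀ w ∈ W, a w ∈ W) (n : ℕ) (w : W) :
    ((((a.restrict h) ^ n) w : W) : V) = (a ^ n) w := by
  induction n generalizing w with
  | zero => rfl
  | succ n ih =>
    rw [pow_succ, pow_succ, Module.End.mul_apply, Module.End.mul_apply, ih]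
    rfl

/-- **The action of the centraliser of `y` on `R y`.** -/
theorem exists_kernel (hG : Good Q) (hl2 : l ≠ 2) (hlF : (l : F) ≠ 0) {y : ↥(E Q)} (hy : y ^ l = 1) (hy1 : y ≠ 1)
    (hirr : Irr (en Q y) (R (en Q y))) {m : ℕ} (hm : finrank F (R (en Q y)) = 2 * m) :
    ∃ L : Subgroup ↥(centralizer ({y} : Set ↥(E Q))),
      (∀ c, c ∈ L ↔ ∀ w ∈ R (en Q y), (c.1 : V ≃ₗ[F] V) w = w) ∧ L.index ∣ Nat.card F ^ m + 1 := by
  classical
  have hfinE : Finite ↥(E Q) := finite_E
  have hfinF : Finite F := finite_F hG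
  have hfd : FiniteDimensional F V := inferInstance
  have hy' : en Q y ^ l = 1 := by rw [← map_pow, hy, map_one]
  have hyne : en Q y ≠ 1 := fun h => hy1 (en_injective (h.trans (map_one _).symm))
  have hWne : R (en Q y) ≠ ⊥ := fun h => hyne (R_eq_bot.1 h)
  set W := R (en Q y) with hW
  have hn : Nontrivial W := Submodule.nontrivial_iff_ne_bot.2 hWne
  have hyW : ∀ w ∈ W, en Q y w ∈ W := fun w hw => R_inv rfl hw
  have hcomm : ∀ c : ↥(centralizer ({y} : Set ↥(E Q))), en Q c.1 * en Q y = en Q y * en Q c.1 := fun c => by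
    rw [← map_mul, ← map_mul, mem_centralizer_singleton_iff.1 c.2]
  have hcW : ∀ c : ↥(centralizer ({y} : Set ↥(E Q))), ∀ w ∈ W, en Q c.1 w ∈ W := fun c w hw => R_inv (hcomm c) hw
  let ρ : ↥(centralizer ({y} : Set ↥(E Q))) →* Module.End F W :=
    { toFun := fun c => (en Q c.1).restrict (hcW c)
      map_one' := by
        refine LinearMap.ext fun w => Subtype.ext ?_
        change en Q 1 (w : V) = w
        rw [map_one]; rfl
      map_mul' := fun a b => by
        refine LinearMap.ext fun w => Subtype.ext ?_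
        change en Q (a.1 * b.1) (w : V) = en Q a.1 (en Q b.1 w)
        rw [map_mul]; rfl }
  have hρ : ∀ c w, ((ρ c w : W) : V) = (c.1 : V ≃ₗ[F] V) w := fun c w => rfl
  obtain ⟨w, hw, hw0⟩ := Submodule.exists_mem_ne_zero_of_ne_bot hWne
  obtain ⟨m', hm', hU⟩ := unitary_on (l := l - 1) hWne hyW hirr (polarBilin Q) (fun u _ v _ => isom_en y u v)
    (fun v hv hv' => nondeg_R (isom_en y) (polar_nondeg hG) hy' hlF hv hv')
    (by rw [Nat.sub_add_cancel hl.out.one_le, hy'])
    ⟨w, hw, fun h1 => hw0 (eq_zero_of_mem hy' hlF (fix_of_sq hl2 hy' h1) hw)⟩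
  have hmm : m' = m := by omega
  subst hmm
  obtain ⟨L, hL, hLi⟩ := card_range_dvd (g := (en Q y).restrict hyW) (hirr.restrict hyW) ρ (fun c => by
    refine LinearMap.ext fun w => Subtype.ext ?_
    exact LinearMap.congr_fun (hcomm c) (w : V)) (n := Nat.card F ^ m' + 1) (fun c => by
    refine LinearMap.ext fun w => Subtype.ext ?_
    have h1 := hU (en Q c.1) (hcW c) (fun w _ => LinearMap.congr_fun (hcomm c) w)
      (fun u _ v _ => isom_en c.1 u v) w w.2
    have h2 := restr_pow (hcW c) (Nat.card F ^ m' + 1) w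
    rw [h1] at h2
    exact h2)
  refine ⟨L, fun c => ?_, hLi⟩
  rw [hL]
  constructor
  · intro h w hw
    have h1 := congrArg Subtype.val (LinearMap.congr_fun h ⟨w, hw⟩)
    exact h1
  · intro h
    refine LinearMap.ext fun w => Subtype.ext ?_
    exact h w w.2

/-- **Irreducible elements.** -/
theorem card_cent_irr (hG : Good Q) (hl2 : l ≠ 2) (hlF : (l : F) ≠ 0) {y : ↥(E Q)} (hy : y ^ l = 1) (hy1 : y ≠ 1)
    (hirr : Irr (en Q y) (R (en Q y))) {m : ℕ} (hm : finrank F (R (en Q y)) = 2 * m) (hV : finrank F V = 2 * m) :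
    Nat.card (centralizer ({y} : Set ↥(E Q))) ∣ Nat.card F ^ m + 1 := by
  have hfinE : Finite ↥(E Q) := finite_E
  have hfd : FiniteDimensional F V := inferInstance
  obtain ⟨L, hL, hLi⟩ := exists_kernel hG hl2 hlF hy hy1 hirr hm
  have hW : R (en Q y) = ⊤ := Submodule.eq_top_of_finrank_eq (by rw [hm, hV])
  have h1 : L = ⊥ := by
    rw [eq_bot_iff]
    intro c hc
    rw [mem_bot]
    apply Subtype.ext
    apply Subtype.ext
    ext w
    exact (hL c).1 hc w (hW ▸ Submodule.mem_top)
  rw [h1, index_bot] at hLi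
  exact hLi

/-- **Elements with a hyperbolic plane of fixed vectors.** -/
theorem card_cent_plane (hG : Good Q) (hl2 : l ≠ 2) (hlF : (l : F) ≠ 0) {y : ↥(E Q)} (hy : y ^ l = 1) (hy1 : y ≠ 1)
    (hirr : Irr (en Q y) (R (en Q y))) {m : ℕ} (hm : finrank F (R (en Q y)) = 2 * m)
    (hK : finrank F (K (en Q y)) = 2) {e : V} (he : e ∈ K (en Q y)) (he0 : e ≠ 0) (hQe : Q e = 0) :
    Nat.card (centralizer ({y} : Set ↥(E Q))) ∣ (Nat.card F ^ m + 1) * (2 * (Nat.card F - 1)) := by
  classical
  have hfinE : Finite ↥(E Q) := finite_E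
  have hfinF : Finite F := finite_F hG
  have hfd : FiniteDimensional F V := inferInstance
  have hy' : en Q y ^ l = 1 := by rw [← map_pow, hy, map_one]
  obtain ⟨L, hL, hLi⟩ := exists_kernel hG hl2 hlF hy hy1 hirr hm
  have hnd : ∀ v ∈ K (en Q y), (∀ u ∈ K (en Q y), polarBilin Q u v = 0) → v = 0 := fun w hw h =>
    nondeg_K (isom_en y) (polar_nondeg hG) hy' hlF hw h
  have hcK : ∀ c : ↥(centralizer ({y} : Set ↥(E Q))), ∀ w ∈ K (en Q y), (c.1 : V ≃ₗ[F] V) w ∈ K (en Q y) :=
    fun c w hw => K_inv (s := en Q c.1) (by rw [← map_mul, ← map_mul, mem_centralizer_singleton_iff.1 c.2]) hw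
  rw [← Subgroup.card_mul_index L, mul_comm]
  apply Nat.mul_dvd_mul hLi
  -- `L` acts freely on the nonzero singular vectors of `K y`
  have h1 := card_sing_plane hK hnd he he0 hQe
  have h2 : Nat.card {v : V // v ∈ K (en Q y) ∧ Q v = 0 ∧ v ≠ 0} = 2 * (Nat.card F - 1) := by
    have h3 : Nat.card {v : V // v ∈ K (en Q y) ∧ Q v = 0} =
        Nat.card (Option {v : V // v ∈ K (en Q y) ∧ Q v = 0 ∧ v ≠ 0}) := by
      refine Nat.card_congr ⟨fun v => if h : (v : V) = 0 then none else some ⟨v, v.2.1, v.2.2, h⟩,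
        fun v => v.elim ⟨0, Submodule.zero_mem _, QuadraticMap.map_zero _⟩ (fun v => ⟨v, v.2.1, v.2.2.1⟩), ?_, ?_⟩
      · intro v
        by_cases h : (v : V) = 0
        · simp only [h, dif_pos]
          exact Subtype.ext h.symm
        · simp only [h, dif_neg, not_false_eq_true]
          rfl
      · rintro (_ | v)
        · simp
        · have := v.2.2.2
          simp [this]
    rw [Finite.card_option] at h3
    have := Nat.card_pos (α := F)
    omega
  rw [← h2]
  let act : MulAction ↥L {v : V // v ∈ K (en Q y) ∧ Q v = 0 ∧ v ≠ 0} :=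
    { smul := fun g v => ⟨(g.1.1 : V ≃ₗ[F] V) v, hcK g.1 v v.2.1, by rw [E_le_O g.1.1.2]; exact v.2.2.1,
        fun h => v.2.2.2 (LinearEquiv.map_eq_zero_iff _ |>.1 h)⟩
      one_smul := fun v => rfl
      mul_smul := fun g h v => rfl }
  have hsm : ∀ (g : ↥L) (v : {v : V // v ∈ K (en Q y) ∧ Q v = 0 ∧ v ≠ 0}),
    ((g • v : {v : V // v ∈ K (en Q y) ∧ Q v = 0 ∧ v ≠ 0}) : V) = (g.1.1 : V ≃ₗ[F] V) v := fun _ _ => rfl
  refine Cfsg.Agent.Classification.InvCentU.FiveLib.card_dvd_of_free (fun g x hgx => ?_)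
  have hgx' : (g.1.1 : V ≃ₗ[F] V) x = x := by rw [← hsm, hgx]
  obtain ⟨x, hxK, hQx, hx0⟩ := x
  obtain ⟨x', hx'K, hxx', hQx', -, hdec⟩ := exists_pair hK hnd hxK hx0 hQx
  have hgO := E_le_O g.1.1.2
  have h3 : (g.1.1 : V ≃ₗ[F] V) x' = x' := by
    have h4 := hcK g.1 x' hx'K
    have h5 : Q ((g.1.1 : V ≃ₗ[F] V) x') = 0 := by rw [hgO]; exact hQx'
    have h6 : polar Q x ((g.1.1 : V ≃ₗ[F] V) x') = 1 := by
      have h7 := polar_map hgO x x'
      rw [hgx', hxx'] at h7
      exact h7
    rcases sing_cases hQx hQx' hxx' hdec h4 h5 with ⟨c, hc⟩ | ⟨c, hc⟩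
    · rw [hc, polar_smul_right, polar_self_of_sing hQx, smul_zero] at h6
      exact absurd h6 zero_ne_one
    · rw [hc, polar_smul_right, hxx', smul_eq_mul, mul_one] at h6
      rw [hc, h6, one_smul]
  apply Subtype.ext
  apply Subtype.ext
  apply Subtype.ext
  ext w
  obtain ⟨k, hk, r, hr, rfl⟩ := decomp hy' hlF w
  change (g.1.1 : V ≃ₗ[F] V) (k + r) = k + r
  rw [map_add, (hL g.1).1 g.2 r hr]
  congr 1
  have h4 := hdec k hk
  rw [h4, map_add, map_smul, map_smul, h3]
  congr 2

/-- **The elements normalising `⟨y⟩`.** -/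
theorem norm_pow (hG : Good Q) (hlF : (l : F) ≠ 0) {y : ↥(E Q)} (hy : y ^ l = 1) (hy1 : y ≠ 1)
    (hirr : Irr (en Q y) (R (en Q y))) {a : ↥(E Q)} {j : ℕ} (hj : a * y * a⁻¹ = y ^ j) :
    j ^ finrank F (R (en Q y)) ≡ 1 [MOD l] := by
  classical
  have hfinE : Finite ↥(E Q) := finite_E
  have hfd : FiniteDimensional F V := inferInstance
  have hy' : en Q y ^ l = 1 := by rw [← map_pow, hy, map_one]
  have hyne : en Q y ≠ 1 := fun h => hy1 (en_injective (h.trans (map_one _).symm))
  have hWne : R (en Q y) ≠ ⊥ := fun h => hyne (R_eq_bot.1 h)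
  set W := R (en Q y) with hW
  have hn : Nontrivial W := Submodule.nontrivial_iff_ne_bot.2 hWne
  have hyW : ∀ w ∈ W, en Q y w ∈ W := fun w hw => R_inv rfl hw
  have hay : a * y = y ^ j * a := by rw [← hj]; group
  have hay' : en Q a * en Q y = en Q y ^ j * en Q a := by rw [← map_mul, hay, map_mul, map_pow]
  have hpow : ∀ (n : ℕ) (v : V), (en Q y ^ n) v - v ∈ W := by
    intro n
    induction n with
    | zero => intro v; rw [pow_zero, Module.End.one_apply, sub_self]; exact Submodule.zero_mem _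
    | succ n ih =>
      intro v
      rw [pow_succ', Module.End.mul_apply]
      have h1 : en Q y ((en Q y ^ n) v) - v = (en Q y ((en Q y ^ n) v) - (en Q y ^ n) v) + ((en Q y ^ n) v - v) := by
        abel
      rw [h1]
      exact Submodule.add_mem _ (sub_mem_R _ _) (ih v)
  have haW : ∀ w ∈ W, en Q a w ∈ W := by
    rintro _ ⟨v, rfl⟩
    change en Q a (en Q y v - v) ∈ W
    rw [map_sub, ← Module.End.mul_apply, hay', Module.End.mul_apply]
    exact hpow j _
  -- the inverse
  have hainj : Function.Injective ((en Q a).restrict haW) := by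
    intro u v h
    apply Subtype.ext
    have h1 : (a : V ≃ₗ[F] V) u = (a : V ≃ₗ[F] V) v := congrArg Subtype.val h
    exact (a : V ≃ₗ[F] V).injective h1
  let ea : W ≃ₗ[F] W := LinearEquiv.ofInjectiveEndo ((en Q a).restrict haW) hainj
  have hea : ∀ w, ea w = (en Q a).restrict haW w := fun w => rfl
  refine pow_eq_one_of_norm (g := (en Q y).restrict hyW) (hirr.restrict hyW) ?_ ?_ (a := (en Q a).restrict haW)
    (a' := (ea.symm : W →ₗ[F] W)) ?_ (j := j) ?_
  · refine LinearMap.ext fun w => Subtype.ext ?_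
    rw [restr_pow, hy']
    rfl
  · intro h
    obtain ⟨w, hw, hw0⟩ := Submodule.exists_mem_ne_zero_of_ne_bot hWne
    apply hw0
    have h1 : en Q y w = w := congrArg Subtype.val (LinearMap.congr_fun h ⟨w, hw⟩)
    exact eq_zero_of_mem hy' hlF h1 hw
  · refine LinearMap.ext fun w => ?_
    change ea.symm ((en Q a).restrict haW w) = w
    rw [← hea, LinearEquiv.symm_apply_apply]
  · refine LinearMap.ext fun w => Subtype.ext ?_
    change en Q a (en Q y w) = ((((en Q y).restrict hyW) ^ j) ((en Q a).restrict haW w) : W)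
    rw [restr_pow]
    exact LinearMap.congr_fun hay' (w : V)

end conc

end Cfsg.Agent.H311.PD
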