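import Cfsg.Agent.H200.RowOrthG
import Cfsg.Agent.H160.PD.Crit
import Cfsg.Agent.StdL2.G23Coset

/-!
# S4246, orthogonal rows: the Siegel group of a singular vector and the `p`-parts of centralisers (helper311)
-/

set_option autoImplicit false
set_option linter.unusedSectionVars false

namespace Cfsg.Agent.H311.PD

open QuadraticMap Module Subgroup Cfsg.Agent.LieClassical.OrthCore Cfsg.Agent.LieClassical.OrthTrans
open Cfsg.Agent.ClassicalGeometry.OrthSemi Cfsg.Agent.ClassicalGeometry.OrthAut1
open Cfsg.Agent.H200.LinFix Cfsg.Agent.H200.RowOrth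
open Cfsg.Agent.H160.PD (v)

variable {F V : Type*} [Field F] [AddCommGroup V] [Module F V] {Q : QuadraticForm F V}

/-! ### the Siegel group -/

/-- The Siegel group of the singular vector `u`. -/
def X (Q : QuadraticForm F V) (u : V) (hu : Q u = 0) : Subgroup ↥(E Q) where
  carrier := {g | ∃ (w : V) (hw : polar Q u w = 0), (g : V ≃ₗ[F] V) = siegel Q u w hu hw}
  mul_mem' := by
    rintro a b ⟨w, hw, ha⟩ ⟨w', hw', hb⟩
    have h : polar Q u (w + w') = 0 := by rw [polar_add_right, hw, hw', add_zero]
    exact ⟨w + w', h, by rw [Subgroup.coe_mul, ha, hb, siegel_mul hu hw hw' h]⟩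
  one_mem' := by
    refine ⟨0, polar_zero_right _ _, ?_⟩
    ext v
    rw [siegel_apply, polar_zero_left, QuadraticMap.map_zero]
    simp
  inv_mem' := by
    rintro a ⟨w, hw, ha⟩
    have hw' : polar Q u (-w) = 0 := by rw [polar_neg_right, hw, neg_zero]
    refine ⟨-w, hw', ?_⟩
    rw [Subgroup.coe_inv, ha, inv_eq_iff_mul_eq_one, siegel_mul hu hw hw' (by
      rw [add_neg_cancel, polar_zero_right])]
    ext v
    rw [siegel_apply, add_neg_cancel, polar_zero_left, QuadraticMap.map_zero]
    simp

theorem mem_X {u : V} {hu : Q u = 0} {g : ↥(E Q)} :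
    g ∈ X Q u hu ↔ ∃ (w : V) (hw : polar Q u w = 0), (g : V ≃ₗ[F] V) = siegel Q u w hu hw := Iff.rfl

/-- the orthogonal complement of a vector -/
def prp (Q : QuadraticForm F V) (u : V) : Submodule F V := LinearMap.ker (polarBilin Q u)

theorem mem_prp {u w : V} : w ∈ prp Q u ↔ polar Q u w = 0 := by
  rw [prp, LinearMap.mem_ker, polarBilin_apply_apply]

theorem finrank_prp [FiniteDimensional F V] (hQ : Nondeg Q) {u : V} (h0 : u ≠ 0) :
    finrank F (prp Q u) + 1 = finrank F V := by
  have h1 := LinearMap.finrank_range_add_finrank_ker (polarBilin Q u)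
  have h2 : LinearMap.range (polarBilin Q u) = ⊤ := by
    rw [LinearMap.range_eq_top]
    intro c
    obtain ⟨y, hy⟩ := hQ.exists_polar_eq h0 c
    exact ⟨y, hy⟩
  rw [h2, finrank_top, finrank_self] at h1
  rw [prp]
  omega

/-- the map `w ↦ siegel u w` -/
noncomputable def psi (Q : QuadraticForm F V) (u : V) (hu : Q u = 0) (W : Submodule F V) (hW : W ≤ prp Q u) :
    Multiplicative ↥W →* ↥(E Q) where
  toFun w := ⟨siegel Q u (Multiplicative.toAdd w).1 hu (mem_prp.1 (hW (Multiplicative.toAdd w).2)), siegel_mem_E _ _⟩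
  map_one' := by
    apply Subtype.ext
    ext v
    change siegel Q u 0 hu (polar_zero_right _ _) v = v
    rw [siegel_apply, polar_zero_left, QuadraticMap.map_zero]
    simp
  map_mul' := by
    intro a b
    apply Subtype.ext
    exact (siegel_mul (w := (Multiplicative.toAdd a).1) (w' := (Multiplicative.toAdd b).1) hu
      (mem_prp.1 (hW (Multiplicative.toAdd a).2)) (mem_prp.1 (hW (Multiplicative.toAdd b).2))
      (mem_prp.1 (hW (Multiplicative.toAdd (a * b)).2))).symm

theorem psi_apply {u : V} {hu : Q u = 0} {W : Submodule F V} {hW : W ≤ prp Q u} (w : Multiplicative ↥W) :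
    (psi Q u hu W hW w : V ≃ₗ[F] V) =
      siegel Q u (Multiplicative.toAdd w).1 hu (mem_prp.1 (hW (Multiplicative.toAdd w).2)) := rfl

/-- the Siegel transformations with `w ∈ W` -/
noncomputable def XW (Q : QuadraticForm F V) (u : V) (hu : Q u = 0) (W : Submodule F V) (hW : W ≤ prp Q u) :
    Subgroup ↥(E Q) := (psi Q u hu W hW).range

theorem mem_XW {u : V} {hu : Q u = 0} {W : Submodule F V} {hW : W ≤ prp Q u} {g : ↥(E Q)} :
    g ∈ XW Q u hu W hW ↔ ∃ w ∈ W, ∃ hw : polar Q u w = 0, (g : V ≃ₗ[F] V) = siegel Q u w hu hw := by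
  rw [XW, MonoidHom.mem_range]
  constructor
  · rintro ⟨w, rfl⟩
    exact ⟨_, (Multiplicative.toAdd w).2, _, psi_apply w⟩
  · rintro ⟨w, hwW, hw, hg⟩
    exact ⟨Multiplicative.ofAdd ⟨w, hwW⟩, Subtype.ext hg.symm⟩

theorem XW_prp {u : V} {hu : Q u = 0} : XW Q u hu (prp Q u) le_rfl = X Q u hu := by
  ext g
  rw [mem_XW, mem_X]
  constructor
  · rintro ⟨w, -, hw, hg⟩
    exact ⟨w, hw, hg⟩
  · rintro ⟨w, hw, hg⟩
    exact ⟨w, mem_prp.2 hw, hw, hg⟩

/-- equality of Siegel transformations with the same centre -/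
theorem siegel_eq_iff (hQ : Nondeg Q) {u w w' : V} (hu : Q u = 0) (h0 : u ≠ 0) (hw : polar Q u w = 0)
    (hw' : polar Q u w' = 0) : siegel Q u w hu hw = siegel Q u w' hu hw' ↔ w - w' ∈ Submodule.span F {u} := by
  have key : ∀ {w : V} (hw : polar Q u w = 0), siegel Q u w hu hw = 1 ↔ w ∈ Submodule.span F {u} := by
    intro w hw
    rw [Submodule.mem_span_singleton]
    constructor
    · intro h
      obtain ⟨y, hy⟩ := hQ.exists_polar_eq h0 1
      have h1 : siegel Q u w hu hw y = y := by rw [h]; rfl
      rw [siegel_apply, hy, one_smul, mul_one] at h1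
      refine ⟨polar Q w y + Q w, ?_⟩
      rw [add_smul]
      have h2 : y + (w - (polar Q w y • u + Q w • u)) = y := by
        have : y + w - polar Q w y • u - Q w • u = y + (w - (polar Q w y • u + Q w • u)) := by abel
        rw [this] at h1
        exact h1
      have h3 := add_eq_left.1 h2
      exact (sub_eq_zero.1 h3).symm
    · rintro ⟨c, rfl⟩
      ext v
      rw [siegel_apply, polar_smul_left, QuadraticMap.map_smul, hu]
      simp only [smul_eq_mul, mul_zero, zero_mul, zero_smul, sub_zero]
      rw [smul_smul, mul_comm (polar Q u v) c, add_sub_cancel_right]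
      rfl
  have hw2 : polar Q u (-w') = 0 := by rw [polar_neg_right, hw', neg_zero]
  have hd : polar Q u (w + -w') = 0 := by rw [polar_add_right, hw, hw2, add_zero]
  have h1 : siegel Q u w hu hw * siegel Q u (-w') hu hw2 = siegel Q u (w + -w') hu hd := siegel_mul hu hw hw2 hd
  have h2 : siegel Q u w' hu hw' * siegel Q u (-w') hu hw2 = 1 := by
    rw [siegel_mul hu hw' hw2 (by rw [add_neg_cancel, polar_zero_right])]
    ext v
    rw [siegel_apply, add_neg_cancel, polar_zero_left, QuadraticMap.map_zero]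
    simp
  have h3 : siegel Q u (-w') hu hw2 = (siegel Q u w' hu hw')⁻¹ := eq_inv_of_mul_eq_one_right h2
  rw [sub_eq_add_neg, ← key hd, ← h1, h3, mul_inv_eq_one]

section fin

variable [Finite V]

theorem card_XW (hG : Good Q) {u : V} (hu : Q u = 0) (h0 : u ≠ 0) {W : Submodule F V} (hW : W ≤ prp Q u)
    (huW : u ∈ W) : Nat.card (XW Q u hu W hW) * Nat.card F = Nat.card F ^ finrank F W := by
  have hfd : FiniteDimensional F V := inferInstance
  have hF : Finite F := finite_F hG
  have hfinE : Finite ↥(E Q) := finite_E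
  have h1 := card_mul_index (psi Q u hu W hW).ker
  rw [index_ker] at h1
  have h2 : Nat.card (psi Q u hu W hW).ker = Nat.card F := by
    rw [← Nat.card_congr (Equiv.ofBijective (fun c : F => (⟨Multiplicative.ofAdd ⟨c • u, W.smul_mem c huW⟩, by
        rw [MonoidHom.mem_ker]
        apply Subtype.ext
        rw [psi_apply]
        ext v
        change siegel Q u (c • u) hu _ v = v
        rw [siegel_apply, polar_smul_left, QuadraticMap.map_smul, hu]
        simp only [smul_eq_mul, mul_zero, zero_mul, zero_smul, sub_zero]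
        rw [smul_smul, mul_comm (polar Q u v) c, add_sub_cancel_right]⟩ : (psi Q u hu W hW).ker)) ?_)]
    constructor
    · intro c d h
      have h3 := congrArg (fun x : (psi Q u hu W hW).ker => (Multiplicative.toAdd x.1).1) h
      exact smul_left_injective F h0 h3
    · rintro ⟨w, hw⟩
      have h3 : siegel Q u (Multiplicative.toAdd w).1 hu (mem_prp.1 (hW (Multiplicative.toAdd w).2)) =
          siegel Q u 0 hu (polar_zero_right _ _) := by
        rw [MonoidHom.mem_ker] at hw
        have h4 := congrArg Subtype.val hw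
        rw [psi_apply] at h4
        rw [h4]
        ext v
        rw [siegel_apply, polar_zero_left, QuadraticMap.map_zero]
        simp
      rw [siegel_eq_iff hG.nondeg hu h0, sub_zero, Submodule.mem_span_singleton] at h3
      obtain ⟨c, hc⟩ := h3
      refine ⟨c, ?_⟩
      apply Subtype.ext
      apply Multiplicative.toAdd.injective
      exact Subtype.ext hc
  have h3 : Nat.card (Multiplicative ↥W) = Nat.card F ^ finrank F W := by
    rw [Nat.card_congr Multiplicative.toAdd]
    exact Module.natCard_eq_pow_finrank (K := F)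
  rw [h2, h3, mul_comm] at h1
  exact h1

theorem card_X (hG : Good Q) {u : V} (hu : Q u = 0) (h0 : u ≠ 0) :
    Nat.card (X Q u hu) * Nat.card F ^ 2 = Nat.card F ^ finrank F V := by
  have hfd : FiniteDimensional F V := inferInstance
  have h1 := card_XW hG hu h0 (W := prp Q u) le_rfl (by rw [mem_prp, polar_self_of_sing hu])
  rw [XW_prp] at h1
  rw [← finrank_prp hG.nondeg h0, pow_succ (Nat.card F) (finrank F (prp Q u)), ← h1]
  ring

variable {p : ℕ} [hp : Fact p.Prime]

theorem isPGroup_X (hG : Good Q) (hF : ∃ f, Nat.card F = p ^ f) {u : V} (hu : Q u = 0)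
    (h0 : u ≠ 0) : IsPGroup p (X Q u hu) := by
  obtain ⟨f, hf⟩ := hF
  have h1 := card_X hG hu h0
  rw [hf, ← pow_mul, ← pow_mul] at h1
  obtain ⟨k, -, hk⟩ := (Nat.dvd_prime_pow hp.out).1 (Dvd.intro _ h1)
  exact IsPGroup.of_card hk

/-- elements fixing the line of `u` normalise the Siegel group -/
theorem le_normalizer_X {u : V} (hu : Q u = 0) {R : Subgroup ↥(E Q)} (hR : ∀ g ∈ R, (g : V ≃ₗ[F] V) u = u) :
    R ≤ normalizer (X Q u hu : Set ↥(E Q)) := by
  have key : ∀ g ∈ R, ∀ x ∈ X Q u hu, g * x * g⁻¹ ∈ X Q u hu := by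
    rintro g hg x ⟨w, hw, hx⟩
    have hgO := E_le_O g.2
    have hu' : Q ((g : V ≃ₗ[F] V) u) = 0 := by rw [hR g hg]; exact hu
    have hw' : polar Q ((g : V ≃ₗ[F] V) u) ((g : V ≃ₗ[F] V) w) = 0 := by rw [polar_map hgO]; exact hw
    refine ⟨(g : V ≃ₗ[F] V) w, by rw [← hw', hR g hg], ?_⟩
    rw [Subgroup.coe_mul, Subgroup.coe_mul, Subgroup.coe_inv, hx, siegel_conj hgO hu hw hu' hw']
    congr 1
    exact hR g hg
  intro g hg
  rw [mem_normalizer_iff]
  intro x
  refine ⟨key g hg x, fun h => ?_⟩
  have h1 := key g⁻¹ (inv_mem hg) _ h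
  have h2 : g⁻¹ * (g * x * g⁻¹) * g⁻¹⁻¹ = x := by group
  rwa [h2] at h1

/-- **The index lemma.** -/
theorem index_lemma {u : V} (hu : Q u = 0) {R : Subgroup ↥(E Q)} (hR : ∀ g ∈ R, (g : V ≃ₗ[F] V) u = u) :
    v p R + v p (X Q u hu) ≤ v p ↥(E Q) + v p ↥(R ⊓ X Q u hu) := by
  have hfinE : Finite ↥(E Q) := finite_E
  have hn := le_normalizer_X hu hR
  have h1 := Cfsg.Agent.StdL2.G23Coset.card_sup_mul_card_inf hn
  have h2 := Nat.card_pos (α := ↥(R ⊔ X Q u hu))
  have h3 := Nat.card_pos (α := ↥(R ⊓ X Q u hu))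
  have h4 := Nat.card_pos (α := R)
  have h5 := Nat.card_pos (α := X Q u hu)
  have h6 := congrArg (fun n => n.factorization p) h1
  simp only [Nat.factorization_mul h2.ne' h3.ne', Nat.factorization_mul h4.ne' h5.ne', Finsupp.add_apply] at h6
  have h7 : (Nat.card ↥(R ⊔ X Q u hu)).factorization p ≤ (Nat.card ↥(E Q)).factorization p :=
    (Nat.factorization_le_iff_dvd h2.ne' Nat.card_pos.ne').2 (card_subgroup_dvd_card _) p
  simp only [v]
  omega

theorem v_X (hG : Good Q) {f : ℕ} (hF : Nat.card F = p ^ f) {u : V} (hu : Q u = 0) (h0 : u ≠ 0) :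
    v p (X Q u hu) = f * (finrank F V - 2) := by
  have hfinE : Finite ↥(E Q) := finite_E
  have h1 := card_X hG hu h0
  have h3 := Nat.card_pos (α := X Q u hu)
  rw [hF, ← pow_mul, ← pow_mul] at h1
  have h2 := congrArg (fun n => n.factorization p) h1
  simp only [Nat.factorization_mul h3.ne' (pow_ne_zero (f * 2) hp.out.ne_zero), Finsupp.add_apply,
    hp.out.factorization_pow, Finsupp.single_eq_same] at h2
  have h5 := hG.dim
  have h6 : f * (finrank F V - 2) = f * finrank F V - f * 2 := Nat.mul_sub _ _ _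
  simp only [v]
  omega

theorem v_XW (hG : Good Q) {f : ℕ} (hF : Nat.card F = p ^ f) {u : V} (hu : Q u = 0) (h0 : u ≠ 0)
    {W : Submodule F V} (hW : W ≤ prp Q u) (huW : u ∈ W) : v p (XW Q u hu W hW) + f = f * finrank F W := by
  have hfinE : Finite ↥(E Q) := finite_E
  have h1 := card_XW hG hu h0 hW huW
  have h3 := Nat.card_pos (α := XW Q u hu W hW)
  rw [hF, ← pow_mul] at h1
  have h2 := congrArg (fun n => n.factorization p) h1
  simp only [Nat.factorization_mul h3.ne' (pow_ne_zero f hp.out.ne_zero), Finsupp.add_apply,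
    hp.out.factorization_pow, Finsupp.single_eq_same] at h2
  exact h2

/-! ### Siegel transformations commuting with an isometry -/

/-- the image of a Siegel transformation under conjugation -/
theorem siegel_comm {t : V ≃ₗ[F] V} (ht : t ∈ O Q) {u w : V} (hu : Q u = 0) (hw : polar Q u w = 0)
    (hc : t * siegel Q u w hu hw = siegel Q u w hu hw * t) (hu' : Q (t u) = 0) (hw' : polar Q (t u) (t w) = 0) :
    siegel Q (t u) (t w) hu' hw' = siegel Q u w hu hw := by
  rw [← siegel_conj ht hu hw hu' hw', hc, mul_inv_cancel_right]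

/-- **`t` moves the line of `u`**: the commuting Siegel transformations have `w ∈ ⟨u, t u⟩`. -/
theorem mem_span_of_comm (hQ : Nondeg Q) {t : V ≃ₗ[F] V} (ht : t ∈ O Q) {u w : V} (hu : Q u = 0) (h0 : u ≠ 0)
    (hw : polar Q u w = 0) (hc : t * siegel Q u w hu hw = siegel Q u w hu hw * t)
    (htu : t u ∉ Submodule.span F {u}) : w ∈ Submodule.span F {u, t u} := by
  have hu' : Q (t u) = 0 := by rw [mem_O.1 ht]; exact hu
  have hw' : polar Q (t u) (t w) = 0 := by rw [polar_map ht]; exact hw
  have h1 := siegel_comm ht hu hw hc hu' hw'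
  -- a vector orthogonal to `t u` with product `1` with `u` if possible
  have key : ∀ z, polar Q (t u) z = 0 → polar Q u z • w - (polar Q w z + Q w * polar Q u z) • u =
      - (polar Q (t w) z • t u) := by
    intro z hz
    have h2 := congrArg (fun g : V ≃ₗ[F] V => g z) h1
    simp only [siegel_apply, hz, mul_zero, zero_smul, sub_zero, add_zero] at h2
    have h3 : z + (polar Q u z • w - (polar Q w z + Q w * polar Q u z) • u) = z + -(polar Q (t w) z • t u) := by
      rw [← sub_eq_add_neg, h2, add_smul]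
      abel
    exact add_left_cancel h3
  by_cases hall : ∀ z, polar Q (t u) z = 0 → polar Q u z = 0
  · exfalso
    apply htu
    obtain ⟨y, hy⟩ := hQ.exists_polar_eq (x := t u) (fun h => h0 (t.map_eq_zero_iff.1 h)) 1
    have h2 : u - polar Q u y • t u = 0 := by
      apply hQ
      intro z
      have h3 := hall (z - polar Q (t u) z • y) (by
        rw [polar_sub_right, polar_smul_right, hy, smul_eq_mul, mul_one, sub_self])
      rw [polar_sub_right, polar_smul_right, smul_eq_mul] at h3
      rw [polar_sub_left, polar_smul_left, smul_eq_mul]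
      linear_combination h3
    have h3 : polar Q u y ≠ 0 := by
      intro h4
      rw [h4, zero_smul, sub_zero] at h2
      exact h0 h2
    rw [Submodule.mem_span_singleton]
    refine ⟨(polar Q u y)⁻¹, ?_⟩
    have h4 : u = polar Q u y • t u := sub_eq_zero.1 h2
    have h5 := congrArg (fun x => (polar Q u y)⁻¹ • x) h4
    simp only [smul_smul, inv_mul_cancel₀ h3, one_smul] at h5
    exact h5
  · push Not at hall
    obtain ⟨z, hz, hz1⟩ := hall
    have h2 := key z hz
    have h3 : polar Q u z • w = (polar Q w z + Q w * polar Q u z) • u - (polar Q (t w) z • t u) := by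
      rw [sub_eq_add_neg (_ • u), ← h2]
      abel
    have h4 : w = (polar Q u z)⁻¹ • ((polar Q w z + Q w * polar Q u z) • u - (polar Q (t w) z • t u)) := by
      rw [← h3, smul_smul, inv_mul_cancel₀ hz1, one_smul]
    rw [h4]
    apply Submodule.smul_mem
    apply Submodule.sub_mem
    · exact Submodule.smul_mem _ _ (Submodule.subset_span (by simp))
    · exact Submodule.smul_mem _ _ (Submodule.subset_span (by simp))

/-- **`t` fixes `u`**: the commuting Siegel transformations have `t w - w ∈ ⟨u⟩`. -/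
theorem sub_mem_span_of_comm (hQ : Nondeg Q) {t : V ≃ₗ[F] V} (ht : t ∈ O Q) {u w : V} (hu : Q u = 0) (h0 : u ≠ 0)
    (hw : polar Q u w = 0) (hc : t * siegel Q u w hu hw = siegel Q u w hu hw * t)
    (htu : t u = u) : t w - w ∈ Submodule.span F {u} := by
  have hu' : Q (t u) = 0 := by rw [mem_O.1 ht]; exact hu
  have hw' : polar Q (t u) (t w) = 0 := by rw [polar_map ht]; exact hw
  have h1 := siegel_comm ht hu hw hc hu' hw'
  have hw2 : polar Q u (t w) = 0 := by rw [← htu]; exact hw'
  have h2 : siegel Q u (t w) hu hw2 = siegel Q u w hu hw := by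
    rw [← h1]
    congr 1
    exact htu.symm
  exact (siegel_eq_iff hQ hu h0 hw2 hw).1 h2

/-! ### singular vectors fixed by `p`-groups -/

/-- The number of singular vectors is divisible by the characteristic. -/
theorem card_sing (hG : Good Q) {f : ℕ} (hf : 1 ≤ f) (hF : Nat.card F = p ^ f) :
    p ∣ Nat.card {v : V // Q v = 0} := by
  have hfinE : Finite ↥(E Q) := finite_E
  have hfd : FiniteDimensional F V := inferInstance
  obtain ⟨u, h0, hu⟩ := hG.sing
  have hP : IsPGroup p (X Q u hu) := isPGroup_X hG ⟨f, hF⟩ hu h0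
  let act : MulAction ↥(X Q u hu) {v : V // Q v = 0} :=
    { smul := fun g v => ⟨((g : ↥(E Q)) : V ≃ₗ[F] V) v, by rw [E_le_O g.1.2]; exact v.2⟩
      one_smul := fun v => rfl
      mul_smul := fun g h v => rfl }
  have hsm : ∀ (g : ↥(X Q u hu)) (v : {v : V // Q v = 0}), ((g • v : {v : V // Q v = 0}) : V) =
    ((g : ↥(E Q)) : V ≃ₗ[F] V) v := fun _ _ => rfl
  have h1 := hP.card_modEq_card_fixedPoints {v : V // Q v = 0}
  have h2 : Nat.card (MulAction.fixedPoints ↥(X Q u hu) {v : V // Q v = 0}) = Nat.card F := by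
    refine (Nat.card_congr (Equiv.ofBijective (fun c : F => (⟨⟨c • u, by rw [QuadraticMap.map_smul, hu, smul_zero]⟩, ?_⟩ :
      MulAction.fixedPoints ↥(X Q u hu) {v : V // Q v = 0})) ⟨?_, ?_⟩)).symm
    · rintro ⟨g, w, hw, hg⟩
      apply Subtype.ext
      rw [hsm]
      change (g : V ≃ₗ[F] V) (c • u) = c • u
      rw [hg, siegel_apply, polar_smul_right, polar_self_of_sing hu, polar_smul_right, polar_comm, hw]
      simp
    · intro c d h
      have h3 := congrArg (fun x : MulAction.fixedPoints ↥(X Q u hu) {v : V // Q v = 0} => (x.1.1 : V)) h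
      exact smul_left_injective F h0 h3
    · rintro ⟨⟨x, hx⟩, hfix⟩
      -- every `w` orthogonal to `u` and independent of `u`
      have key : ∀ w, polar Q u w = 0 → polar Q u x • w = (polar Q w x + Q w * polar Q u x) • u := by
        intro w hw
        have h3 := congrArg Subtype.val (hfix ⟨⟨siegel Q u w hu hw, siegel_mem_E hu hw⟩, w, hw, rfl⟩)
        rw [hsm] at h3
        change siegel Q u w hu hw x = x at h3
        rw [siegel_apply] at h3
        have h4 : x + (polar Q u x • w - (polar Q w x + Q w * polar Q u x) • u) = x := by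
          rw [add_smul]
          rw [← sub_sub, ← add_sub_assoc, ← add_sub_assoc]
          exact h3
        exact sub_eq_zero.1 (add_eq_left.1 h4)
      have hux : polar Q u x = 0 := by
        by_contra hne
        have h3 : prp Q u ≤ Submodule.span F {u} := by
          intro w hw
          rw [mem_prp] at hw
          rw [Submodule.mem_span_singleton]
          refine ⟨(polar Q u x)⁻¹ * (polar Q w x + Q w * polar Q u x), ?_⟩
          rw [mul_smul, ← key w hw, smul_smul, inv_mul_cancel₀ hne, one_smul]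
        have h4 := Submodule.finrank_mono h3
        have h5 := finrank_prp hG.nondeg h0
        have h6 := hG.dim
        have h7 : finrank F (Submodule.span F {u}) = 1 := finrank_span_singleton h0
        omega
      have h3 : ∀ w, polar Q u w = 0 → polar Q x w = 0 := by
        intro w hw
        have h4 := key w hw
        rw [hux, zero_smul, mul_zero, add_zero] at h4
        rw [polar_comm]
        rcases smul_eq_zero.1 h4.symm with h5 | h5
        · exact h5
        · exact absurd h5 h0
      -- `x` is a multiple of `u`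
      obtain ⟨y, hy⟩ := hG.nondeg.exists_polar_eq h0 1
      refine ⟨polar Q x y, ?_⟩
      apply Subtype.ext
      apply Subtype.ext
      change polar Q x y • u = x
      have h5 : x - polar Q x y • u = 0 := by
        apply hG.nondeg
        intro z
        have h6 := h3 (z - polar Q u z • y) (by
          rw [polar_sub_right, polar_smul_right, hy, smul_eq_mul, mul_one, sub_self])
        rw [polar_sub_right, polar_smul_right] at h6
        rw [polar_sub_left, polar_smul_left, smul_eq_mul]
        rw [smul_eq_mul] at h6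
        linear_combination h6
      exact (sub_eq_zero.1 h5).symm
  rw [h2] at h1
  have h3 : p ∣ Nat.card F := by rw [hF]; exact dvd_pow_self _ (by omega)
  exact Nat.modEq_zero_iff_dvd.1 (h1.trans (Nat.modEq_zero_iff_dvd.2 h3))

/-- **A `p`-group fixes a nonzero singular vector.** -/
theorem exists_sing_fixed (hG : Good Q) {f : ℕ} (hf : 1 ≤ f) (hF : Nat.card F = p ^ f) {R : Subgroup ↥(E Q)}
    (hR : IsPGroup p R) : ∃ u : V, u ≠ 0 ∧ Q u = 0 ∧ ∀ g ∈ R, (g : V ≃ₗ[F] V) u = u := by
  have hfinE : Finite ↥(E Q) := finite_E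
  let act : MulAction ↥R {v : V // Q v = 0} :=
    { smul := fun g v => ⟨((g : ↥(E Q)) : V ≃ₗ[F] V) v, by rw [E_le_O g.1.2]; exact v.2⟩
      one_smul := fun v => rfl
      mul_smul := fun g h v => rfl }
  have hsm : ∀ (g : ↥R) (v : {v : V // Q v = 0}), ((g • v : {v : V // Q v = 0}) : V) =
    ((g : ↥(E Q)) : V ≃ₗ[F] V) v := fun _ _ => rfl
  have h1 := hR.card_modEq_card_fixedPoints {v : V // Q v = 0}
  have h2 : p ∣ Nat.card (MulAction.fixedPoints ↥R {v : V // Q v = 0}) :=
    Nat.modEq_zero_iff_dvd.1 (h1.symm.trans (Nat.modEq_zero_iff_dvd.2 (card_sing hG hf hF)))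
  have h3 : (⟨0, QuadraticMap.map_zero _⟩ : {v : V // Q v = 0}) ∈ MulAction.fixedPoints ↥R {v : V // Q v = 0} := by
    intro g
    apply Subtype.ext
    rw [hsm]
    exact map_zero _
  have h4 : Nontrivial (MulAction.fixedPoints ↥R {v : V // Q v = 0}) := by
    rw [← Finite.one_lt_card_iff_nontrivial]
    have h5 : 0 < Nat.card (MulAction.fixedPoints ↥R {v : V // Q v = 0}) := by
      have : Nonempty (MulAction.fixedPoints ↥R {v : V // Q v = 0}) := ⟨⟨_, h3⟩⟩
      exact Nat.card_pos
    exact lt_of_lt_of_le hp.out.one_lt (Nat.le_of_dvd h5 h2)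
  obtain ⟨x, hx⟩ := _root_.exists_ne (⟨_, h3⟩ : MulAction.fixedPoints ↥R {v : V // Q v = 0})
  refine ⟨x.1.1, fun h => hx (Subtype.ext (Subtype.ext h)), x.1.2, fun g hg => ?_⟩
  exact congrArg Subtype.val (x.2 ⟨g, hg⟩)

end fin

end Cfsg.Agent.H311.PD
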